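/-
An automorphism of PSp permutes the transvection groups.
-/
import Cfsg.Agent.Lib.Classical.SpSimple
import Cfsg.Agent.Lib.Transvec.Symplectic

set_option autoImplicit false

namespace CfsgLib.PSpAut

open Matrix CfsgLib.Classical

variable {F : Type*} [Field F] {m : ℕ}

local notation "V" => Fin m ⊕ Fin m → F
local notation "sf" => Cfsg.sympForm m F
local notation "Spn" => Matrix.symplecticGroup (Fin m) F
local notation "PSpn" => Cfsg.PSp m F

/-- The class in `PSp`. -/
def pspMk : Spn →* PSpn := QuotientGroup.mk' _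

lemma pspMk_surjective : Function.Surjective (pspMk : Spn → PSpn) := QuotientGroup.mk'_surjective _

lemma exists_partner {u : V} (hu : u ≠ 0) : ∃ y, sf y u = 1 := by
  obtain ⟨w, hw⟩ := exists_sympForm_ne_zero hu
  exact ⟨(-(sf u w)⁻¹) • w, by rw [sympForm_smul_left, sympForm_swap u w]; field_simp⟩

lemma sympForm_comm_zero {u v : V} : sf u v = 0 ↔ sf v u = 0 := by
  rw [sympForm_swap v u, neg_eq_zero]

lemma mem_span_of_perp {u z : V} (h : ∀ y, sf y u = 0 → sf y z = 0) : z ∈ Submodule.span F {u} := by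
  rcases eq_or_ne u 0 with rfl | hu
  · rw [show z = 0 from ?_]
    · exact zero_mem _
    refine sympForm_nondeg fun y => ?_
    rw [sympForm_swap, h y (sympForm_zero_right y), neg_zero]
  obtain ⟨y₀, hy₀⟩ := exists_partner hu
  refine Submodule.mem_span_singleton.2 ⟨sf y₀ z, ?_⟩
  rw [← sub_eq_zero]
  refine sympForm_nondeg fun y => ?_
  have h1 := h (y - sf y u • y₀) (by rw [sympForm_sub_left, sympForm_smul_left, hy₀, mul_one, sub_self])
  rw [sympForm_sub_left, sympForm_smul_left, sub_eq_zero] at h1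
  rw [sympForm_swap, sympForm_sub_right, sympForm_smul_right, h1, mul_comm, sub_self, neg_zero]

lemma exists_perp (hm : 2 ≤ m) (u v : V) : ∃ e : V, e ≠ 0 ∧ sf e u = 0 ∧ sf e v = 0 := by
  let L : V →ₗ[F] (Fin 2 → F) := LinearMap.pi ![(spBilin m F).flip u, (spBilin m F).flip v]
  obtain ⟨e, he, he0⟩ := Submodule.exists_mem_ne_zero_of_ne_bot
    (LinearMap.ker_ne_bot_of_finrank_lt (f := L) (by simp; omega))
  exact ⟨e, he0, congrFun (LinearMap.mem_ker.1 he) 0, congrFun (LinearMap.mem_ker.1 he) 1⟩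

lemma exists_scalar {g g' : Spn} (e : pspMk g = pspMk g') : ∃ c : F, c ≠ 0 ∧ ∀ y, g'.1 *ᵥ y = c • (g.1 *ᵥ y) := by
  obtain ⟨z, hz, hgz⟩ := (QuotientGroup.mk'_eq_mk' _).1 e
  rcases (mem_center_sp_iff z).1 hz with rfl | rfl
  · exact ⟨1, one_ne_zero, fun y => by rw [← hgz, mul_one, one_smul]⟩
  · exact ⟨-1, by simp, fun y => by
      rw [← hgz, Submonoid.coe_mul, ← mulVec_mulVec, spNegOne_apply, mulVec_neg, neg_one_smul]⟩

lemma eq_of_pspMk {g g' : Spn} (e : pspMk g = pspMk g') {y : V} (hy : y ≠ 0)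
    (h1 : g.1 *ᵥ y = y) (h2 : g'.1 *ᵥ y = y) : g = g' := by
  obtain ⟨c, -, hc⟩ := exists_scalar e
  have h3 := hc y
  rw [h1, h2] at h3
  have h4 : (c - 1) • y = 0 := by rw [sub_smul, one_smul, ← h3, sub_self]
  exact sp_ext fun z => by rw [hc z, sub_eq_zero.1 ((smul_eq_zero.1 h4).resolve_right hy), one_smul]

lemma spT_eq_imp {u v : V} {a b : F} (hu : u ≠ 0) (ha : a ≠ 0) (e : spT u a = spT v b) :
    u ∈ Submodule.span F {v} := by
  obtain ⟨y, hy⟩ := exists_partner hu
  have h1 := congrArg (fun g : Spn => g.1 *ᵥ y) e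
  simp only [spT_apply, hy, mul_one, add_right_inj] at h1
  exact Submodule.mem_span_singleton.2 ⟨a⁻¹ * (b * sf y v), by rw [← smul_smul, ← h1, smul_smul, inv_mul_cancel₀ ha, one_smul]⟩

lemma pspMk_spT_eq_imp (hm : 2 ≤ m) {u v : V} {a b : F} (hu : u ≠ 0) (ha : a ≠ 0)
    (e : pspMk (spT u a) = pspMk (spT v b)) : u ∈ Submodule.span F {v} := by
  obtain ⟨y, hy, h1, h2⟩ := exists_perp hm u v
  exact spT_eq_imp hu ha (eq_of_pspMk e hy (spT_fix h1 a) (spT_fix h2 b))

lemma commute_pspMk_spT_iff (hm : 2 ≤ m) {u v : V} {a b : F} (hu : u ≠ 0) (ha : a ≠ 0) (hb : b ≠ 0) :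
    Commute (pspMk (spT u a)) (pspMk (spT v b)) ↔ sf u v = 0 := by
  constructor
  · intro hc
    by_contra huv
    set T := spT v b
    have he : pspMk (spT (T.1 *ᵥ u) a) = pspMk (spT u a) := by
      rw [← spT_conj, map_mul, map_mul, map_inv, hc.symm.eq, mul_inv_cancel_right]
    have hTu : T.1 *ᵥ u ≠ 0 := fun h0 => hu (sp_mulVec_injective T (show T.1 *ᵥ u = T.1 *ᵥ 0 by rw [h0, mulVec_zero]))
    obtain ⟨k, hk⟩ := Submodule.mem_span_singleton.1 (pspMk_spT_eq_imp hm hTu ha he)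
    rw [spT_apply] at hk
    have h1 := congrArg (fun z => sf u z) hk
    simp only [sympForm_smul_right, sympForm_add_right, sympForm_self, mul_zero, zero_add] at h1
    exact huv (pow_eq_zero_iff (two_ne_zero) |>.1 ((mul_eq_zero.1 (show b * (sf u v) ^ 2 = 0 by linear_combination -h1)).resolve_left hb))
  · intro huv
    refine Commute.map ?_ pspMk
    have h1 := spT_conj (spT v b) u a
    rw [spT_fix huv] at h1
    exact (mul_inv_eq_iff_eq_mul.1 h1).symm

/-- The unipotent radical of the stabiliser of a vector. -/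
def qSp (x : V) : Subgroup Spn where
  carrier := {g | g.1 *ᵥ x = x ∧ ∀ w, sf w x = 0 → g.1 *ᵥ w - w ∈ Submodule.span F {x}}
  one_mem' := ⟨by simp, fun w _ => by simp⟩
  mul_mem' {a b} ha hb := by
    refine ⟨by rw [Submonoid.coe_mul, ← mulVec_mulVec, hb.1, ha.1], fun w hw => ?_⟩
    obtain ⟨d, hd⟩ := Submodule.mem_span_singleton.1 (hb.2 w hw)
    have hbw : b.1 *ᵥ w = w + d • x := by rw [hd]; abel
    rw [Submonoid.coe_mul, ← mulVec_mulVec, hbw, mulVec_add, mulVec_smul, ha.1, add_sub_right_comm]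
    exact add_mem (ha.2 w hw) (Submodule.smul_mem _ _ (Submodule.mem_span_singleton_self x))
  inv_mem' {a} ha := by
    have hx : a⁻¹.1 *ᵥ x = x := by conv_lhs => rw [← ha.1, sp_inv_mulVec]
    refine ⟨hx, fun w hw => ?_⟩
    have hw' : sf (a⁻¹.1 *ᵥ w) x = 0 := by rw [← sp_form a, sp_mulVec_inv, ha.1]; exact hw
    obtain ⟨d, hd⟩ := Submodule.mem_span_singleton.1 (ha.2 _ hw')
    rw [sp_mulVec_inv] at hd
    rw [← neg_sub, ← hd]
    exact neg_mem (Submodule.smul_mem _ _ (Submodule.mem_span_singleton_self x))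

lemma exists_eichler {x w : V} (hw : sf w x = 0) :
    ∃ g : Spn, g ∈ qSp x ∧ ∀ y, g.1 *ᵥ y = y + sf y x • w + sf y w • x := by
  let L : V →ₗ[F] V := LinearMap.id + ((spBilin m F).flip x).smulRight w + ((spBilin m F).flip w).smulRight x
  have hL : ∀ y, L y = y + sf y x • w + sf y w • x := fun y => rfl
  have hxw : sf x w = 0 := sympForm_comm_zero.1 hw
  have hMy : ∀ y, LinearMap.toMatrix' L *ᵥ y = L y := fun y => LinearMap.toMatrix'_mulVec L y
  refine ⟨⟨LinearMap.toMatrix' L, mem_sp_iff.2 fun y z => ?_⟩, ⟨?_, fun v hv => ?_⟩, fun y => (hMy y).trans (hL y)⟩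
  · simp only [hMy, hL, sympForm_add_left, sympForm_add_right, sympForm_smul_left, sympForm_smul_right,
      sympForm_self, hw, hxw, mul_zero, add_zero]
    rw [sympForm_swap z x, sympForm_swap z w]
    ring
  · show LinearMap.toMatrix' L *ᵥ x = x
    rw [hMy, hL, sympForm_self, hxw]; simp
  · show LinearMap.toMatrix' L *ᵥ v - v ∈ _
    rw [hMy, hL, hv, zero_smul, add_zero, add_sub_cancel_left]
    exact Submodule.smul_mem _ _ (Submodule.mem_span_singleton_self x)

/-- The elements fixing `x` and centralising its radical. -/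
lemma centralizer_qSp {x : V} (hx : x ≠ 0) {z : Spn} (hzx : z.1 *ᵥ x = x)
    (hz : ∀ g ∈ (qSp x : Subgroup Spn), Commute z g) :
    (∃ c, z = spT x c) ∨ ((2 : F) = 0 ∧ ∃ a : V, LinearIndependent F ![x, a] ∧ sf x a = 0 ∧
      LinearMap.range (z.1 - 1).mulVecLin = Submodule.span F {x, a} ∧
      ∃ k : F, ∀ y, z.1 *ᵥ y = y + sf y x • a + sf a y • x + (k * sf y x) • x) := by
  obtain ⟨y₀, hy₀⟩ := exists_partner hx
  set a := z.1 *ᵥ y₀ - y₀ with ha
  have hzy₀ : z.1 *ᵥ y₀ = y₀ + a := by rw [ha]; abel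
  have hax : sf a x = 0 := by
    rw [ha, sympForm_sub_left, hy₀]
    conv_lhs => arg 1; rw [← hzx]
    rw [sp_form, hy₀, sub_self]
  have key : ∀ w, sf w x = 0 → z.1 *ᵥ w = w + sf a w • x ∧ 2 * sf a w = 0 := by
    intro w hw
    obtain ⟨g, hg, hgt⟩ := exists_eichler hw
    have h1 := congrArg (fun e : Spn => e.1 *ᵥ y₀) (hz g hg).eq
    have hzyx : sf (y₀ + a) x = 1 := by rw [sympForm_add_left, hy₀, hax, add_zero]
    simp only [Submonoid.coe_mul, ← mulVec_mulVec, hgt, mulVec_add, mulVec_smul, hzy₀, hzx, hy₀, hzyx, one_smul,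
      sympForm_add_left y₀ a w, add_smul] at h1
    have h2 : z.1 *ᵥ w = w + sf a w • x := by linear_combination (norm := module) h1
    refine ⟨h2, ?_⟩
    have h3 := sp_form z y₀ w
    rw [hzy₀, h2, sympForm_add_right, sympForm_smul_right, hzyx, sympForm_add_left] at h3
    linear_combination h3
  have hformula : ∀ y, z.1 *ᵥ y - y = sf y x • a + sf a (y - sf y x • y₀) • x := by
    intro y
    have h1 := (key (y - sf y x • y₀) (by rw [sympForm_sub_left, sympForm_smul_left, hy₀, mul_one, sub_self])).1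
    rw [mulVec_sub, mulVec_smul, hzy₀] at h1
    linear_combination (norm := module) h1
  by_cases hperp : ∀ w, sf w x = 0 → sf a w = 0
  · left
    have hmem : a ∈ Submodule.span F {x} := mem_span_of_perp fun w hw => sympForm_comm_zero.1 (hperp w hw)
    obtain ⟨c, hc⟩ := Submodule.mem_span_singleton.1 hmem
    refine ⟨c, sp_ext fun y => ?_⟩
    rw [spT_apply, ← sub_add_cancel (z.1 *ᵥ y) y, hformula,
      hperp _ (by rw [sympForm_sub_left, sympForm_smul_left, hy₀, mul_one, sub_self]), zero_smul, add_zero,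
      ← hc, smul_smul, mul_comm]
    abel
  · right
    push Not at hperp
    obtain ⟨w, hw, haw⟩ := hperp
    refine ⟨(mul_eq_zero.1 (key w hw).2).resolve_right haw, a, ?_, sympForm_comm_zero.1 hax, ?_, -sf a y₀, fun y => ?_⟩
    · rw [LinearIndependent.pair_iff' hx]
      intro c hc
      refine haw ?_
      rw [← hc, sympForm_smul_left, sympForm_comm_zero.1 hw, mul_zero]
    · apply le_antisymm
      · rintro _ ⟨y, rfl⟩
        rw [mulVecLin_apply, sub_mulVec, one_mulVec, hformula]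
        exact Submodule.mem_span_pair.2 ⟨_, _, add_comm _ _⟩
      · rw [Submodule.span_le, Set.insert_subset_iff, Set.singleton_subset_iff]
        constructor
        · refine ⟨(sf a w)⁻¹ • w, ?_⟩
          rw [map_smul, mulVecLin_apply, sub_mulVec, one_mulVec, (key w hw).1, add_sub_cancel_left, smul_smul,
            inv_mul_cancel₀ haw, one_smul]
        · exact ⟨y₀, by rw [mulVecLin_apply, sub_mulVec, one_mulVec]⟩
    · have h1 := hformula y
      rw [sympForm_sub_right, sympForm_smul_right] at h1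
      linear_combination (norm := module) h1

variable [Fintype F]

section Char

variable {p : ℕ} [Fact p.Prime] [CharP F p]

lemma qSp_pow (hm : 1 ≤ m) {x : V} {g : Spn} (hg : g ∈ qSp x) : g ^ p ^ 2 = 1 := by
  have hp : 2 ≤ p := (Fact.out : p.Prime).two_le
  haveI : Nonempty (Fin m ⊕ Fin m) := ⟨Sum.inl ⟨0, hm⟩⟩
  set M := g.1 with hM
  have hN : ∀ y, (M - 1) *ᵥ y = g.1 *ᵥ y - y := fun y => by rw [sub_mulVec, one_mulVec]
  have h3 : (M - 1) ^ 3 = 0 := by
    refine Matrix.ext_of_mulVec_single fun i => ?_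
    rw [zero_mulVec, pow_succ', pow_succ', pow_one, ← mulVec_mulVec, ← mulVec_mulVec]
    generalize (Pi.single i 1 : V) = y
    have h1 : sf ((M - 1) *ᵥ y) x = 0 := by
      rw [hN, sympForm_sub_left, sub_eq_zero]
      conv_lhs => rw [← hg.1]
      exact sp_form g y x
    obtain ⟨d, hd⟩ := Submodule.mem_span_singleton.1 (hg.2 _ h1)
    rw [← hN] at hd
    rw [← hd, mulVec_smul, hN, hg.1, sub_self, smul_zero]
  have h4 : M ^ p ^ 2 = 1 := by
    rw [← sub_eq_zero, ← one_pow (p ^ 2), ← sub_pow_char_pow_of_commute (p := p) (n := 2) (Commute.one_right M)]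
    exact pow_eq_zero_of_le (by nlinarith) h3
  exact Subtype.ext ((SubmonoidClass.coe_pow g _).trans h4)

lemma exists_fixed (hm : 1 ≤ m) {P : Subgroup Spn} (hP : IsPGroup p P) :
    ∃ x : V, x ≠ 0 ∧ ∀ g ∈ P, g.1 *ᵥ x = x := by
  letI : MulAction P V :=
    { smul := fun g y => (g : Spn).1 *ᵥ y
      one_smul := fun y => one_mulVec y
      mul_smul := fun a b y => (mulVec_mulVec y _ _).symm }
  have hdvd : p ∣ Nat.card V := by
    rw [Module.natCard_eq_pow_finrank (K := F), Nat.card_eq_fintype_card]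
    obtain ⟨k, -, hk⟩ := FiniteField.card F p
    rw [hk, ← pow_mul]
    refine dvd_pow_self p (Nat.mul_ne_zero k.ne_zero ?_)
    simp; omega
  obtain ⟨y, hy, hy0⟩ := hP.exists_fixed_point_of_prime_dvd_card_of_fixed_point V hdvd (a := (0 : V))
    (fun g => mulVec_zero _)
  exact ⟨y, fun e => hy0 e.symm, fun g hg => hy ⟨g, hg⟩⟩

lemma qSp_le_sylow (hm : 1 ≤ m) (P : Sylow p Spn) {x : V} (hPx : ∀ g ∈ P, g.1 *ᵥ x = x) :
    (qSp x : Subgroup Spn) ≤ P := by
  have key : ∀ g : Spn, g.1 *ᵥ x = x → ∀ a ∈ qSp x, g * a * g⁻¹ ∈ qSp x := by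
    intro g hgx a ha
    have hgi : g⁻¹.1 *ᵥ x = x := by conv_lhs => rw [← hgx, sp_inv_mulVec]
    refine ⟨by rw [Submonoid.coe_mul, Submonoid.coe_mul, ← mulVec_mulVec, ← mulVec_mulVec, hgi, ha.1, hgx], fun w hw => ?_⟩
    have hw' : sf (g⁻¹.1 *ᵥ w) x = 0 := by rw [← sp_form g, sp_mulVec_inv, hgx]; exact hw
    obtain ⟨d, hd⟩ := Submodule.mem_span_singleton.1 (ha.2 _ hw')
    have h2 : a.1 *ᵥ (g⁻¹.1 *ᵥ w) = g⁻¹.1 *ᵥ w + d • x := by rw [hd]; abel
    rw [Submonoid.coe_mul, Submonoid.coe_mul, ← mulVec_mulVec, ← mulVec_mulVec, h2, mulVec_add, mulVec_smul,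
      sp_mulVec_inv, hgx, add_sub_cancel_left]
    exact Submodule.smul_mem _ _ (Submodule.mem_span_singleton_self x)
  have hnorm : (P : Subgroup Spn) ≤ Subgroup.normalizer (qSp x : Subgroup Spn) := by
    intro g hg
    rw [Subgroup.mem_normalizer_iff]
    intro a
    refine ⟨key g (hPx g hg) a, fun ha => ?_⟩
    have hgi : g⁻¹.1 *ᵥ x = x := by conv_lhs => rw [← hPx g hg, sp_inv_mulVec]
    have := key g⁻¹ hgi _ ha
    simpa [mul_assoc] using this
  have hsup := IsPGroup.to_sup_of_normal_right' P.2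
    (fun g : (qSp x : Subgroup Spn) => ⟨2, Subtype.ext (by rw [Subgroup.coe_pow, qSp_pow hm g.2, Subgroup.coe_one])⟩) hnorm
  exact (le_sup_right).trans (P.3 hsup le_sup_left).le

end Char

/-- Few transvections are conjugate to a given one. -/
lemma card_conjugates_spT (u : V) (c : F) (hu : u ≠ 0) :
    Nat.card {y : Spn // IsConj (spT u c) y} ≤ Nat.card V - 1 := by
  classical
  have h1 : Nat.card {y : Spn // IsConj (spT u c) y} ≤ Nat.card {v : V // v ≠ 0} := by
    refine Nat.card_le_card_of_surjective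
      (fun v : {v : V // v ≠ 0} => (⟨spT v.1 c, ?_⟩ : {y : Spn // IsConj (spT u c) y})) ?_
    · obtain ⟨g, -, hg⟩ := exists_sp_move hu v.2
      exact isConj_iff.2 ⟨g, by rw [spT_conj, hg]⟩
    · rintro ⟨y, hy⟩
      obtain ⟨g, rfl⟩ := isConj_iff.1 hy
      exact ⟨⟨g.1 *ᵥ u, fun h0 => hu (sp_mulVec_injective g (show g.1 *ᵥ u = g.1 *ᵥ 0 by rw [h0, mulVec_zero]))⟩,
        Subtype.ext (spT_conj g u c).symm⟩
  refine h1.trans (le_of_eq ?_)
  rw [Nat.card_eq_fintype_card, Nat.card_eq_fintype_card, Fintype.card_subtype_compl, Fintype.card_subtype_eq]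

/-- Transitivity on totally isotropic pairs. -/
lemma exists_move_pair {x a u v : V} (hli : LinearIndependent F ![x, a]) (hxa : sf x a = 0) (hu : u ≠ 0)
    (huv : sf u v = 0) (hv : v ∉ Submodule.span F {u}) : ∃ g : Spn, g.1 *ᵥ x = u ∧ g.1 *ᵥ a = v := by
  have hx : x ≠ 0 := by simpa using hli.ne_zero 0
  have hall : ∀ v : V, CfsgLib.Transvec.Full (Cfsg.sympForm m F) (Cfsg.spGL m F) v :=
    fun v c => CfsgLib.Transvec.sT_mem_spGL m v c
  have hf := CfsgLib.Transvec.isSymplecticForm_sympForm (F := F) m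
  obtain ⟨g₁, hg₁, hi₁, he₁, -⟩ := CfsgLib.Transvec.exists_move_in hf (M := Cfsg.spGL m F) (W := ⊤)
    (fun v _ => hall v) (fun w _ hw => by
      obtain ⟨y, hy⟩ := exists_partner hw
      exact ⟨y, trivial, by rw [hy]; exact one_ne_zero⟩) (Submodule.mem_top (x := x)) (Submodule.mem_top (x := u)) hx hu
  obtain ⟨g₂, hg₂, hi₂, he₂, hfix⟩ := CfsgLib.Transvec.exists_move_fix hf hall (Submodule.span F {u})
    (v := (g₁ : Matrix _ _ F) *ᵥ a) (b := v) (fun hmem => by
      obtain ⟨c, hc⟩ := Submodule.mem_span_singleton.1 hmem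
      rw [← he₁, ← mulVec_smul] at hc
      exact (LinearIndependent.pair_iff' hx).1 hli c (CfsgLib.Transvec.mulVec_injective g₁ hc)) hv (fun e he => by
      obtain ⟨c, rfl⟩ := Submodule.mem_span_singleton.1 he
      rw [sympForm_smul_left, sympForm_smul_left, huv, ← he₁, hi₁, hxa])
  refine ⟨⟨((g₂ * g₁ : GL _ F) : Matrix _ _ F), mem_sp_iff.2 fun u v => hi₂.mul hi₁ u v⟩, ?_, ?_⟩
  · show ((g₂ * g₁ : GL _ F) : Matrix _ _ F) *ᵥ x = u
    rw [Units.val_mul, ← mulVec_mulVec, he₁, hfix u (Submodule.mem_span_singleton_self u)]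
  · show ((g₂ * g₁ : GL _ F) : Matrix _ _ F) *ᵥ a = v
    rw [Units.val_mul, ← mulVec_mulVec, he₂]

/-- Many elements are conjugate to one moving a totally isotropic line. -/
lemma card_conjugates_line (hm : 3 ≤ m) {z : Spn} {x a : V} (hli : LinearIndependent F ![x, a]) (hxa : sf x a = 0)
    (hr : LinearMap.range (z.1 - 1).mulVecLin = Submodule.span F {x, a}) :
    Nat.card V - 1 < Nat.card {y : Spn // IsConj z y} := by
  classical
  set q := Nat.card F with hq
  have hx : x ≠ 0 := by simpa using hli.ne_zero 0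
  let Pairs := Σ u : {u : V // u ≠ 0}, {v : V // sf u.1 v = 0 ∧ v ∉ Submodule.span F {u.1}}
  have hmove : ∀ P : Pairs, ∃ g : Spn, g.1 *ᵥ x = P.1.1 ∧ g.1 *ᵥ a = P.2.1 :=
    fun P => exists_move_pair hli hxa P.1.2 P.2.2.1 P.2.2.2
  choose g hg1 hg2 using hmove
  let R : Spn → Submodule F V := fun y => LinearMap.range (y.1 - 1).mulVecLin
  have hR : ∀ k : Spn, R (k * z * k⁻¹) = Submodule.span F {k.1 *ᵥ x, k.1 *ᵥ a} := by
    intro k
    have h1 : R (k * z * k⁻¹) = (R z).map k.1.mulVecLin := by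
      ext w
      constructor
      · rintro ⟨y, rfl⟩
        refine ⟨(z.1 - 1).mulVecLin (k⁻¹.1 *ᵥ y), ⟨_, rfl⟩, ?_⟩
        simp only [mulVecLin_apply, sub_mulVec, one_mulVec, mulVec_sub, Submonoid.coe_mul, ← mulVec_mulVec, sp_mulVec_inv]
      · rintro ⟨_, ⟨y, rfl⟩, rfl⟩
        refine ⟨k.1 *ᵥ y, ?_⟩
        simp only [mulVecLin_apply, sub_mulVec, one_mulVec, mulVec_sub, Submonoid.coe_mul, ← mulVec_mulVec, sp_inv_mulVec]
    rw [h1, show R z = _ from hr, Submodule.map_span, Set.image_insert_eq, Set.image_singleton]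
    rfl
  let Φ : Pairs → Σ y : {y : Spn // IsConj z y}, R y.1 × R y.1 := fun P =>
    ⟨⟨g P * z * (g P)⁻¹, isConj_iff.2 ⟨g P, rfl⟩⟩,
      ⟨P.1.1, by rw [hR, hg1]; exact Submodule.subset_span (Set.mem_insert _ _)⟩,
      ⟨P.2.1, by rw [hR, hg2]; exact Submodule.subset_span (Set.mem_insert_of_mem _ rfl)⟩⟩
  have hΦ : Function.Injective Φ := by
    intro P P' e
    have e1 := congrArg (fun s : Σ y : {y : Spn // IsConj z y}, R y.1 × R y.1 => ((s.2.1 : V), (s.2.2 : V))) e
    obtain ⟨e2, e3⟩ := Prod.mk.inj e1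
    obtain ⟨⟨u, hu⟩, v, hv⟩ := P
    obtain ⟨⟨u', hu'⟩, v', hv'⟩ := P'
    change u = u' at e2
    change v = v' at e3
    subst e2; subst e3
    rfl
  have hle := Nat.card_le_card_of_injective Φ hΦ
  have hRcard : ∀ y : {y : Spn // IsConj z y}, Nat.card (R y.1) = q ^ 2 := by
    rintro ⟨y, hy⟩
    obtain ⟨k, rfl⟩ := isConj_iff.1 hy
    rw [Module.natCard_eq_pow_finrank (K := F), hR]
    have hli' : LinearIndependent F ![k.1 *ᵥ x, k.1 *ᵥ a] := by
      have := hli.map' k.1.mulVecLin (LinearMap.ker_eq_bot.2 (sp_mulVec_injective k))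
      rwa [show ⇑k.1.mulVecLin ∘ ![x, a] = ![k.1 *ᵥ x, k.1 *ᵥ a] from funext fun i => by fin_cases i <;> rfl] at this
    rw [show ({k.1 *ᵥ x, k.1 *ᵥ a} : Set V) = Set.range ![k.1 *ᵥ x, k.1 *ᵥ a] by simp [Set.pair_comm],
      finrank_span_eq_card hli', Fintype.card_fin]
  have hle2 : Nat.card Pairs ≤ Nat.card {y : Spn // IsConj z y} * (q ^ 2 * q ^ 2) := hle.trans_eq (by
    rw [Nat.card_sigma, Finset.sum_congr rfl (fun y _ => (show Nat.card (R y.1 × R y.1) = q ^ 2 * q ^ 2 by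
      rw [Nat.card_prod, hRcard])), Finset.sum_const, smul_eq_mul, Finset.card_univ, Nat.card_eq_fintype_card])
  have hfib : ∀ u : {u : V // u ≠ 0}, Nat.card {v : V // sf u.1 v = 0 ∧ v ∉ Submodule.span F {u.1}} + q = q ^ (2 * m - 1) := by
    intro u
    have hk : Nat.card (LinearMap.ker (spBilin m F u.1)) = q ^ (2 * m - 1) := by
      rw [Module.natCard_eq_pow_finrank (K := F)]
      congr 1
      have h1 := (spBilin m F u.1).finrank_range_add_finrank_ker
      have h2 : LinearMap.range (spBilin m F u.1) = ⊤ := by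
        rw [LinearMap.range_eq_top]
        obtain ⟨y, hy⟩ := exists_partner u.2
        intro c
        exact ⟨(-c) • y, by rw [spBilin_apply, sympForm_smul_right, sympForm_swap y u.1, hy]; ring⟩
      rw [h2, finrank_top, Module.finrank_self] at h1
      simp at h1
      omega
    have hs : Nat.card (Submodule.span F {u.1}) = q := by
      rw [Module.natCard_eq_pow_finrank (K := F), finrank_span_singleton u.2, pow_one]
    rw [← hk, ← hs]
    have hsub : Submodule.span F {u.1} ≤ LinearMap.ker (spBilin m F u.1) := by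
      rw [Submodule.span_singleton_le_iff_mem, LinearMap.mem_ker, spBilin_apply, sympForm_self]
    rw [← Nat.card_sum]
    refine Nat.card_congr
      { toFun := Sum.elim (fun v => ⟨v.1, v.2.1⟩) (fun v => ⟨v.1, hsub v.2⟩)
        invFun := fun v => if e : v.1 ∈ Submodule.span F {u.1} then Sum.inr ⟨v.1, e⟩ else Sum.inl ⟨v.1, v.2, e⟩
        left_inv := fun v => ?_
        right_inv := fun v => ?_ }
    · rcases v with v | v
      · simp [v.2.2]
      · simp
    · dsimp only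
      split_ifs <;> rfl
  have hne : Nat.card {u : V // u ≠ 0} = Nat.card V - 1 := by
    rw [Nat.card_eq_fintype_card, Nat.card_eq_fintype_card, Fintype.card_subtype_compl, Fintype.card_subtype_eq]
  have hP : Nat.card Pairs + (Nat.card V - 1) * q = (Nat.card V - 1) * q ^ (2 * m - 1) := by
    rw [show Nat.card Pairs = ∑ u : {u : V // u ≠ 0}, Nat.card {v : V // sf u.1 v = 0 ∧ v ∉ Submodule.span F {u.1}} from
      Nat.card_sigma, ← hne, Nat.card_eq_fintype_card (α := {u : V // u ≠ 0}), Fintype.card, ← smul_eq_mul,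
      ← smul_eq_mul, ← Finset.sum_const, ← Finset.sum_const, ← Finset.sum_add_distrib]
    exact Finset.sum_congr rfl fun u _ => hfib u
  have hq2 : 2 ≤ q := by rw [hq, Nat.card_eq_fintype_card]; exact Fintype.one_lt_card
  have hpow : q ^ 5 ≤ q ^ (2 * m - 1) := Nat.pow_le_pow_right (by omega) (by omega)
  have hV : 1 ≤ Nat.card V - 1 := by
    rw [← hne]
    exact Nat.card_pos_iff.2 ⟨⟨⟨x, hx⟩⟩, inferInstance⟩
  by_contra hlt
  push Not at hlt
  have h5 : Nat.card Pairs ≤ (Nat.card V - 1) * (q ^ 2 * q ^ 2) := hle2.trans (Nat.mul_le_mul_right _ hlt)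
  have h6 : q ^ (2 * m - 1) ≤ q ^ 2 * q ^ 2 + q := by
    refine Nat.le_of_mul_le_mul_left ?_ hV
    rw [← hP, mul_add]
    omega
  have h7 : q ^ 4 + q < q ^ 5 := by
    have : q < q ^ 4 := by
      calc q = q ^ 1 := (pow_one q).symm
        _ < q ^ 4 := Nat.pow_lt_pow_right (by omega) (by norm_num)
    have h8 : 2 * q ^ 4 ≤ q * q ^ 4 := Nat.mul_le_mul_right _ hq2
    rw [pow_succ' q 4]
    omega
  have h9 : q ^ 2 * q ^ 2 = q ^ 4 := by ring
  omega

lemma card_conjugates_equiv {G H : Type*} [Group G] [Group H] (e : G ≃* H) (x : G) :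
    Nat.card {y : G // IsConj x y} = Nat.card {y : H // IsConj (e x) y} :=
  Nat.card_congr (e.toEquiv.subtypeEquiv fun y => by
    constructor
    · exact fun h => e.toMonoidHom.map_isConj h
    · intro h
      simpa using e.symm.toMonoidHom.map_isConj h)

/-- The image of a transvection fixes a vector and centralises its radical. -/
lemma exists_central_image (hm : 2 ≤ m) {p : ℕ} [Fact p.Prime] [CharP F p] (β : MulAut PSpn) {v : V} (hv : v ≠ 0)
    (c : F) : ∃ (x : V) (z : Spn), x ≠ 0 ∧ z.1 *ᵥ x = x ∧ (∀ g ∈ (qSp x : Subgroup Spn), Commute z g) ∧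
      β (pspMk (spT v c)) = pspMk z := by
  classical
  obtain ⟨P₀⟩ : Nonempty (Sylow p Spn) := inferInstance
  obtain ⟨x₀, hx₀, hP₀⟩ := exists_fixed (by omega : 1 ≤ m) P₀.2
  obtain ⟨g, -, hg⟩ := exists_sp_move hx₀ hv
  have hcs : Function.Surjective (MulAut.conj g).toMonoidHom := (MulAut.conj g).surjective
  obtain ⟨P', hP'⟩ : ∃ P' : Sylow p Spn, P' = P₀.mapSurjective hcs :=
    ⟨_, rfl⟩
  have hmem : ∀ k ∈ P', k.1 *ᵥ v = v := by
    intro k hk
    have hk' : k ∈ (P' : Subgroup Spn) := hk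
    clear hk
    rename' hk' => hk
    rw [hP', Sylow.coe_mapSurjective] at hk
    obtain ⟨j, hj, rfl⟩ := hk
    show (g * j * g⁻¹).1 *ᵥ v = v
    rw [Submonoid.coe_mul, Submonoid.coe_mul, ← mulVec_mulVec, ← mulVec_mulVec, ← hg, sp_inv_mulVec, hP₀ j hj]
  have hQ := qSp_le_sylow (by omega : 1 ≤ m) P' hmem
  have htQ : spT v c ∈ (qSp v : Subgroup Spn) :=
    ⟨spT_fix (sympForm_self v) c, fun w hw => by rw [spT_fix hw, sub_self]; exact zero_mem _⟩
  have hβs : Function.Surjective ((β.toMonoidHom).comp (pspMk : Spn →* PSpn)) := β.surjective.comp pspMk_surjective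
  obtain ⟨P₁, hP₁⟩ := Sylow.mapSurjective_surjective (pspMk_surjective (F := F) (m := m)) p (P'.mapSurjective hβs)
  have hP₁' : (P₁ : Subgroup Spn).map (pspMk : Spn →* PSpn) = (P' : Subgroup Spn).map (β.toMonoidHom.comp pspMk) := by
    have := congrArg (fun S : Sylow p PSpn => (S : Subgroup PSpn)) hP₁
    simpa only [Sylow.coe_mapSurjective] using this
  obtain ⟨x, hx, hPx⟩ := exists_fixed (by omega : 1 ≤ m) P₁.2
  obtain ⟨z, hzP, hz⟩ : β (pspMk (spT v c)) ∈ (P₁ : Subgroup Spn).map (pspMk : Spn →* PSpn) :=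
    hP₁'.symm ▸ ⟨_, hQ htQ, rfl⟩
  have hcomm : ∀ k ∈ P', Commute k (spT v c) := fun k hk => by
    have h1 := spT_conj k v c
    rw [hmem k hk] at h1
    exact mul_inv_eq_iff_eq_mul.1 h1
  have hzc : ∀ k ∈ (qSp x : Subgroup Spn), Commute z k := by
    intro k hk
    have hkP := qSp_le_sylow (by omega : 1 ≤ m) P₁ hPx hk
    obtain ⟨j, hj, hjk⟩ : pspMk k ∈ (P' : Subgroup Spn).map (β.toMonoidHom.comp pspMk) := hP₁' ▸ ⟨k, hkP, rfl⟩
    refine eq_of_pspMk (g := z * k) (g' := k * z) ?_ hx ?_ ?_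
    · rw [map_mul, map_mul, hz, ← hjk]
      show β _ * β (pspMk j) = β (pspMk j) * β _
      rw [← map_mul, ← map_mul, ← map_mul, ← map_mul, (hcomm j hj).eq]
    · rw [Submonoid.coe_mul, ← mulVec_mulVec, hk.1, hPx z hzP]
    · rw [Submonoid.coe_mul, ← mulVec_mulVec, hPx z hzP, hk.1]
  exact ⟨x, z, hx, hPx z hzP, hzc, hz.symm⟩

/-- An automorphism sends transvections to transvections. -/
lemma exists_spT_image (hm : 2 ≤ m) {p : ℕ} [Fact p.Prime] [CharP F p] (h4 : m = 2 → p ≠ 2) (β : MulAut PSpn)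
    {v : V} (hv : v ≠ 0) {c : F} (hc : c ≠ 0) :
    ∃ (w : V) (d : F), w ≠ 0 ∧ d ≠ 0 ∧ β (pspMk (spT v c)) = pspMk (spT w d) := by
  obtain ⟨x, z, hx, hzx, hzc, hz'⟩ := exists_central_image hm β hv c
  have hz := hz'.symm
  rcases centralizer_qSp hx hzx hzc with ⟨d, rfl⟩ | ⟨h2, a, hli, hxa, hr, -⟩
  · refine ⟨x, d, hx, fun hd => ?_, hz.symm⟩
    rw [hd, spT_zero, map_one, eq_comm, map_eq_one_iff β β.injective, ← map_one (pspMk : Spn →* PSpn)] at hz
    obtain ⟨y, hy⟩ := exists_partner hv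
    obtain ⟨e, he0, he, -⟩ := exists_perp hm v v
    have h1 := congrArg (fun g : Spn => g.1 *ᵥ y) (eq_of_pspMk hz he0 (spT_fix he c) (one_mulVec e))
    simp only [spT_apply, hy, mul_one, Submonoid.coe_one, one_mulVec, add_eq_left, smul_eq_zero] at h1
    exact h1.elim hc hv
  · exfalso
    have hp2 : p = 2 := ((Nat.prime_dvd_prime_iff_eq (Fact.out : p.Prime) Nat.prime_two).1
      ((CharP.cast_eq_zero_iff F p 2).1 (by exact_mod_cast h2)))
    have hm3 : 3 ≤ m := by
      by_contra hlt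
      exact h4 (by omega) hp2
    have hinj : Function.Injective (pspMk : Spn → PSpn) := by
      intro g g' e
      obtain ⟨w, hw, hgw⟩ := (QuotientGroup.mk'_eq_mk' _).1 e
      rcases (mem_center_sp_iff w).1 hw with rfl | rfl
      · rw [← hgw, mul_one]
      · rw [← hgw, show (spNegOne : Spn) = 1 from sp_ext fun y => ?_, mul_one]
        rw [spNegOne_apply, Submonoid.coe_one, one_mulVec, ← sub_eq_zero, ← neg_add', ← two_smul F, h2, zero_smul, neg_zero]
    let e : Spn ≃* PSpn := MulEquiv.ofBijective pspMk ⟨hinj, pspMk_surjective⟩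
    have h1 := card_conjugates_equiv ((e.trans β).trans e.symm) (spT v c)
    rw [show ((e.trans β).trans e.symm) (spT v c) = z from (MulEquiv.symm_apply_eq e).2 hz.symm] at h1
    have h3 := card_conjugates_line hm3 hli hxa hr
    have h5 := card_conjugates_spT v c hv
    omega

end CfsgLib.PSpAut
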