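/-
Automorphisms of PSp are semilinear similitudes.
-/
import Cfsg.Agent.Lib.KnownSimple.PSpAut.Transvections
import Cfsg.Agent.Lib.KnownSimple.PSUAut.FTPG
import Cfsg.Prelude.Def_LieTypeDatum

set_option autoImplicit false

namespace CfsgLib.PSpAut

open Matrix CfsgLib.Classical
open scoped LinearAlgebra.Projectivization

variable {F : Type*} [Field F] {m : ℕ}

local notation "V" => Fin m ⊕ Fin m → F
local notation "sf" => Cfsg.sympForm m F
local notation "Spn" => Matrix.symplecticGroup (Fin m) F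
local notation "PSpn" => Cfsg.PSp m F
local notation "Mn" => Matrix (Fin m ⊕ Fin m) (Fin m ⊕ Fin m) F

/-- The semilinear map `v ↦ g τ(v)`. -/
def semiV (g : GL (Fin m ⊕ Fin m) F) (τ : F ≃+* F) (v : V) : V :=
  (g : Matrix (Fin m ⊕ Fin m) (Fin m ⊕ Fin m) F) *ᵥ (τ ∘ v)

lemma semiV_smul (g : GL (Fin m ⊕ Fin m) F) (τ : F ≃+* F) (a : F) (v : V) :
    semiV g τ (a • v) = τ a • semiV g τ v := by
  rw [semiV, semiV, show (τ ∘ (a • v) : V) = τ a • (τ ∘ v) by funext i; simp, mulVec_smul]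

lemma semiV_add (g : GL (Fin m ⊕ Fin m) F) (τ : F ≃+* F) (u v : V) :
    semiV g τ (u + v) = semiV g τ u + semiV g τ v := by
  rw [semiV, semiV, semiV, show (τ ∘ (u + v) : V) = τ ∘ u + τ ∘ v by funext i; simp, mulVec_add]

lemma semiV_surjective (g : GL (Fin m ⊕ Fin m) F) (τ : F ≃+* F) (z : V) : ∃ y, semiV g τ y = z :=
  ⟨τ.symm ∘ (((g⁻¹ : GL (Fin m ⊕ Fin m) F) : Mn) *ᵥ z), by
    rw [semiV, ← Function.comp_assoc, show (τ ∘ τ.symm : F → F) = id by funext x; simp, Function.id_comp,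
      mulVec_mulVec, Units.mul_inv, one_mulVec]⟩

lemma semiV_ne_zero (g : GL (Fin m ⊕ Fin m) F) (τ : F ≃+* F) {v : V} (hv : v ≠ 0) : semiV g τ v ≠ 0 := by
  intro h0
  refine hv (funext fun i => τ.injective ?_)
  have h1 := congrArg (fun w => ((g⁻¹ : GL (Fin m ⊕ Fin m) F) : Mn) *ᵥ w) h0
  simp only [semiV, mulVec_mulVec, Units.inv_mul, one_mulVec, mulVec_zero] at h1
  rw [Pi.zero_apply, map_zero]
  exact congrFun h1 i

lemma sympForm_comp (τ : F ≃+* F) (u v : V) : sf (τ ∘ u) (τ ∘ v) = τ (sf u v) := by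
  simp [sympForm_eq, map_sum, map_sub, map_mul]

/-- `β` sends the transvections with centre `v` to transvections with centre `v'`. -/
def RelT (β : MulAut PSpn) (v v' : V) : Prop :=
  v ≠ 0 ∧ v' ≠ 0 ∧ ∀ c : F, c ≠ 0 → ∃ d : F, d ≠ 0 ∧ β (pspMk (spT v c)) = pspMk (spT v' d)

lemma RelT.unique (hm : 2 ≤ m) {β : MulAut PSpn} {v v' v'' : V} (e : RelT β v v') (e' : RelT β v v'') :
    ∃ a : F, a ≠ 0 ∧ v'' = a • v' := by
  obtain ⟨a, ha, h1⟩ := e.2.2 1 one_ne_zero
  obtain ⟨b, hb, h2⟩ := e'.2.2 1 one_ne_zero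
  obtain ⟨k, hk⟩ := Submodule.mem_span_singleton.1 (pspMk_spT_eq_imp hm e'.2.1 hb (h2.symm.trans h1))
  exact ⟨k, fun h0 => e'.2.1 (by rw [← hk, h0, zero_smul]), hk.symm⟩

lemma RelT.smul {β : MulAut PSpn} {v v' : V} (e : RelT β v v') {a b : F} (ha : a ≠ 0) (hb : b ≠ 0) :
    RelT β (a • v) (b • v') := by
  refine ⟨smul_ne_zero ha e.1, smul_ne_zero hb e.2.1, fun c hc => ?_⟩
  obtain ⟨d, hd, h1⟩ := e.2.2 (c * a ^ 2) (mul_ne_zero hc (pow_ne_zero _ ha))
  refine ⟨d / b ^ 2, div_ne_zero hd (pow_ne_zero _ hb), ?_⟩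
  rw [spT_smul, spT_smul, h1, div_mul_cancel₀ _ (pow_ne_zero _ hb)]

lemma RelT.perp (hm : 2 ≤ m) {β : MulAut PSpn} {u v u' v' : V} (e : RelT β u u') (e' : RelT β v v') :
    sf u v = 0 ↔ sf u' v' = 0 := by
  obtain ⟨a, ha, h1⟩ := e.2.2 1 one_ne_zero
  obtain ⟨b, hb, h2⟩ := e'.2.2 1 one_ne_zero
  rw [← commute_pspMk_spT_iff hm e.1 one_ne_zero one_ne_zero, ← commute_pspMk_spT_iff hm e.2.1 ha hb, ← h1, ← h2]
  exact ⟨fun hc => hc.map β.toMonoidHom, fun hc => β.injective (by rw [map_mul, map_mul]; exact hc)⟩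

lemma RelT.act {β : MulAut PSpn} {v v' : V} (e : RelT β v v') {s s' : Spn} (hs : β (pspMk s) = pspMk s') :
    RelT β (s.1 *ᵥ v) (s'.1 *ᵥ v') := by
  refine ⟨fun h0 => e.1 (sp_mulVec_injective s (show s.1 *ᵥ v = s.1 *ᵥ 0 by rw [h0, mulVec_zero])),
    fun h0 => e.2.1 (sp_mulVec_injective s' (show s'.1 *ᵥ v' = s'.1 *ᵥ 0 by rw [h0, mulVec_zero])), fun c hc => ?_⟩
  obtain ⟨d, hd, h1⟩ := e.2.2 c hc
  refine ⟨d, hd, ?_⟩
  rw [← spT_conj, ← spT_conj, map_mul, map_mul, map_inv, map_mul, map_mul, map_inv, hs, h1, map_mul, map_mul, map_inv]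

/-- `β` sends transvections to transvections. -/
def Preserves (β : MulAut PSpn) : Prop :=
  ∀ v : V, v ≠ 0 → ∀ c : F, c ≠ 0 → ∃ (w : V) (d : F), w ≠ 0 ∧ d ≠ 0 ∧ β (pspMk (spT v c)) = pspMk (spT w d)

variable [Fintype F]

lemma preserves_of_ne_two (hm : 2 ≤ m) {p : ℕ} [Fact p.Prime] [CharP F p] (h4 : m = 2 → p ≠ 2) (β : MulAut PSpn) :
    Preserves β := fun _ hv _ hc => exists_spT_image hm h4 β hv hc

omit [Fintype F] in
lemma exists_relT (hm : 2 ≤ m) {β : MulAut PSpn} (hβ : Preserves β) (hβ' : Preserves β⁻¹)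
    {v : V} (hv : v ≠ 0) : ∃ v', RelT β v v' := by
  obtain ⟨w, d, hw, hd, h1⟩ := hβ v hv 1 one_ne_zero
  refine ⟨w, hv, hw, fun c hc => ?_⟩
  obtain ⟨w', d', hw', hd', h2⟩ := hβ v hv c hc
  have hspan : w' ∈ Submodule.span F {w} := by
    refine mem_span_of_perp fun y hy => ?_
    rcases eq_or_ne y 0 with rfl | hy0
    · exact sympForm_zero_left _
    obtain ⟨y'', k, hy'', hk, h3⟩ := hβ' y hy0 1 one_ne_zero
    have h3' : β (pspMk (spT y'' k)) = pspMk (spT y 1) := by rw [← h3]; exact β.apply_symm_apply _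
    have h5 : sf y'' v = 0 := by
      rw [← commute_pspMk_spT_iff hm hy'' hk (one_ne_zero (α := F))]
      refine β.injective ?_
      rw [map_mul, map_mul, h3', h1]
      exact (commute_pspMk_spT_iff hm hy0 one_ne_zero hd).2 hy
    rw [← commute_pspMk_spT_iff hm hy0 one_ne_zero hd', ← h3', ← h2]
    exact ((commute_pspMk_spT_iff hm hy'' hk hc).2 h5).map β.toMonoidHom
  obtain ⟨a, rfl⟩ := Submodule.mem_span_singleton.1 hspan
  exact ⟨d' * a ^ 2, mul_ne_zero hd' (pow_ne_zero _ fun h0 => hw' (by rw [h0, zero_smul])), by rw [h2, spT_smul]⟩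

omit [Fintype F] in
lemma RelT.inv (hm : 2 ≤ m) {β : MulAut PSpn} (hβ : Preserves β) (hβ' : Preserves β⁻¹) {v v' : V}
    (e : RelT β v v') : RelT β⁻¹ v' v := by
  obtain ⟨w, ew⟩ := exists_relT hm hβ' (by rwa [inv_inv]) e.2.1
  obtain ⟨d, hd, h1⟩ := e.2.2 1 one_ne_zero
  obtain ⟨d', hd', h2⟩ := ew.2.2 d hd
  have h3 : pspMk (spT v 1) = pspMk (spT w d') := by
    rw [← h2, ← h1]; exact (β.symm_apply_apply _).symm
  obtain ⟨k, hk⟩ := Submodule.mem_span_singleton.1 (pspMk_spT_eq_imp hm e.1 (one_ne_zero (α := F)) h3)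
  have hk0 : k ≠ 0 := fun h0 => e.1 (by rw [← hk, h0, zero_smul])
  have := ew.smul (one_ne_zero (α := F)) hk0
  rwa [one_smul, hk] at this

/-- A permutation of points preserving orthogonality is semilinear. -/
lemma exists_semilinear_of_perp (hm : 2 ≤ m) (π : ℙ F V ≃ ℙ F V)
    (hperp : ∀ p r : ℙ F V, sf p.rep r.rep = 0 ↔ sf (π p).rep (π r).rep = 0) :
    ∃ (g : GL (Fin m ⊕ Fin m) F) (τ : F ≃+* F), ∀ (v : V) (hv : v ≠ 0),
      (π (Projectivization.mk F v hv)).rep ∈ Submodule.span F {semiV g τ v} := by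
  have hlines : ∀ p r s : ℙ F V, s.rep ∈ Submodule.span F {p.rep, r.rep} →
      (π s).rep ∈ Submodule.span F {(π p).rep, (π r).rep} := by
    intro p r s hs
    by_contra hc
    obtain ⟨y, hy, hys⟩ := CfsgLib.Transvec.exists_perp_ne (CfsgLib.Transvec.isSymplecticForm_sympForm m) hc
    have hy0 : y ≠ 0 := fun h0 => hys (by rw [h0, sympForm_zero_left])
    obtain ⟨y₀, hy₀⟩ := π.surjective (Projectivization.mk F y hy0)
    obtain ⟨c, hc'⟩ := Projectivization.exists_smul_eq_mk_rep F y hy0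
    have hyy : (π y₀).rep = (c : F) • y := by rw [hy₀, ← hc', Units.smul_def]
    have e : ∀ z, sf (π y₀).rep z = 0 ↔ sf y z = 0 := fun z => by
      rw [hyy, sympForm_smul_left, mul_eq_zero_iff_left c.ne_zero]
    obtain ⟨a, b, hab⟩ := Submodule.mem_span_pair.1 hs
    refine hys ((e _).1 ((hperp y₀ s).1 ?_))
    rw [← hab, sympForm_add_right, sympForm_smul_right, sympForm_smul_right,
      (hperp y₀ p).2 ((e _).2 (hy _ (Submodule.subset_span (Set.mem_insert _ _)))),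
      (hperp y₀ r).2 ((e _).2 (hy _ (Submodule.subset_span (Set.mem_insert_of_mem _ rfl)))), mul_zero, mul_zero, add_zero]
  let e : Fin (2 * m) ≃ Fin m ⊕ Fin m := (Fintype.equivFinOfCardEq (by simp; omega)).symm
  let L : (Fin (2 * m) → F) ≃ₗ[F] V := LinearEquiv.funCongrLeft F F e.symm
  let J : ℙ F (Fin (2 * m) → F) ≃ ℙ F V :=
    { toFun := Projectivization.map L.toLinearMap L.injective
      invFun := Projectivization.map L.symm.toLinearMap L.symm.injective
      left_inv := fun p => by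
        induction p using Projectivization.ind with | _ v hv => simp [Projectivization.map_mk]
      right_inv := fun p => by
        induction p using Projectivization.ind with | _ v hv => simp [Projectivization.map_mk] }
  have hJ : ∀ p, (J p).submodule = p.submodule.map L.toLinearMap := fun p => by
    induction p using Projectivization.ind with | _ v hv =>
    rw [show J (Projectivization.mk F v hv) = Projectivization.mk F (L v) _ from Projectivization.map_mk L.toLinearMap L.injective _ _,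
      Projectivization.submodule_mk, Projectivization.submodule_mk, Submodule.map_span, Set.image_singleton]
    rfl
  let π' : ℙ F (Fin (2 * m) → F) ≃ ℙ F (Fin (2 * m) → F) := (J.trans π).trans J.symm
  have hπ' : ∀ p, J (π' p) = π (J p) := fun p => by simp [π']
  have hl' : CfsgLib.PSLAut.PreservesLines π' := by
    intro p r s hs
    have h1 := Submodule.map_mono (f := L.toLinearMap) hs
    rw [Submodule.map_sup, ← hJ, ← hJ, ← hJ, Projectivization.submodule_eq, Submodule.span_singleton_le_iff_mem,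
      Projectivization.submodule_eq, Projectivization.submodule_eq, ← Submodule.span_union, Set.singleton_union] at h1
    have h2 := hlines _ _ _ h1
    rw [← Submodule.span_singleton_le_iff_mem, ← Projectivization.submodule_eq, ← Set.singleton_union, Submodule.span_union,
      ← Projectivization.submodule_eq, ← Projectivization.submodule_eq, ← hπ', ← hπ', ← hπ', hJ, hJ, hJ, ← Submodule.map_sup] at h2
    exact (Submodule.map_le_map_iff_of_injective L.injective _ _).1 h2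
  obtain ⟨g₀, τ, hg⟩ := CfsgLib.PSUAut.exists_inducedBy_of_lines (by omega) hl'
  let g : GL (Fin m ⊕ Fin m) F := Units.mapEquiv (Matrix.reindexAlgEquiv F F e).toMulEquiv g₀
  refine ⟨g, τ, fun v hv => ?_⟩
  have hv' : L.symm v ≠ 0 := by simpa using hv
  have h1 : (π' (Projectivization.mk F (L.symm v) hv')).rep ∈
      Submodule.span F {(g₀ : Matrix (Fin (2 * m)) (Fin (2 * m)) F) *ᵥ (τ ∘ L.symm v)} := by
    rw [← hg _ hv']; exact CfsgLib.PSLAut.rep_mem _
  have h2 := Submodule.mem_map_of_mem (f := L.toLinearMap) h1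
  rw [Submodule.map_span, Set.image_singleton] at h2
  have h3 : semiV g τ v = L ((g₀ : Matrix (Fin (2 * m)) (Fin (2 * m)) F) *ᵥ (τ ∘ L.symm v)) := by
    funext i
    show (((g₀ : Matrix (Fin (2 * m)) (Fin (2 * m)) F).submatrix e.symm e.symm) *ᵥ (τ ∘ v)) i = _
    rw [submatrix_mulVec_equiv]
    rfl
  have h4 : (π (Projectivization.mk F v hv)).submodule =
      (π' (Projectivization.mk F (L.symm v) hv')).submodule.map L.toLinearMap := by
    rw [← hJ, hπ']
    congr 2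
    rw [show J (Projectivization.mk F (L.symm v) hv') = Projectivization.mk F (L (L.symm v)) _ from
      Projectivization.map_mk L.toLinearMap L.injective _ _]
    congr 1
    exact (L.apply_symm_apply v).symm
  have h5 : (π (Projectivization.mk F v hv)).submodule ≤ Submodule.span F {semiV g τ v} := by
    rw [h4, Projectivization.submodule_eq, Submodule.map_span, Set.image_singleton,
      Submodule.span_singleton_le_iff_mem, h3]
    exact h2
  rwa [Projectivization.submodule_eq, Submodule.span_singleton_le_iff_mem] at h5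

lemma exists_semilinear (hm : 2 ≤ m) {β : MulAut PSpn} (hβ : Preserves β) (hβ' : Preserves β⁻¹) :
    ∃ (g : GL (Fin m ⊕ Fin m) F) (τ : F ≃+* F), g ∈ Cfsg.GSp m F ∧ ∀ v, v ≠ 0 → RelT β v (semiV g τ v) := by
  classical
  have key : ∀ γ : MulAut PSpn, Preserves γ → Preserves γ⁻¹ → ∀ r : ℙ F V, ∃ s : ℙ F V, RelT γ r.rep s.rep := by
    intro γ h1 h2 r
    obtain ⟨v, e⟩ := exists_relT hm h1 h2 r.rep_nonzero
    obtain ⟨a, ha⟩ := Projectivization.exists_smul_eq_mk_rep F v e.2.1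
    refine ⟨Projectivization.mk F v e.2.1, ?_⟩
    rw [← ha, Units.smul_def]
    simpa using e.smul (one_ne_zero (α := F)) a.ne_zero
  choose φ hφ using key
  have hinv : ∀ (γ : MulAut PSpn) (h1 : Preserves γ) (h2 : Preserves γ⁻¹) (h3 : Preserves γ⁻¹⁻¹) (r : ℙ F V),
      φ γ⁻¹ h2 h3 (φ γ h1 h2 r) = r := by
    intro γ h1 h2 h3 r
    obtain ⟨a, ha0, ha⟩ := RelT.unique hm (hφ γ⁻¹ h2 h3 (φ γ h1 h2 r)) ((hφ γ h1 h2 r).inv hm h1 h2)
    conv_rhs => rw [← Projectivization.mk_rep r]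
    rw [← Projectivization.mk_rep (φ γ⁻¹ h2 h3 (φ γ h1 h2 r)), Projectivization.mk_eq_mk_iff']
    exact ⟨a⁻¹, by rw [ha, smul_smul, inv_mul_cancel₀ ha0, one_smul]⟩
  let π : ℙ F V ≃ ℙ F V := ⟨φ β hβ hβ', φ β⁻¹ hβ' (by rwa [inv_inv]), hinv β hβ hβ' _, fun r => by
    simpa using hinv β⁻¹ hβ' (by rwa [inv_inv]) (by rwa [inv_inv]) r⟩
  obtain ⟨g, τ, hg⟩ := exists_semilinear_of_perp hm π fun r s => RelT.perp hm (hφ β hβ hβ' r) (hφ β hβ hβ' s)
  have hrel : ∀ v, v ≠ 0 → RelT β v (semiV g τ v) := by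
    intro v hv
    obtain ⟨a, ha⟩ := Projectivization.exists_smul_eq_mk_rep F v hv
    obtain ⟨b, hb⟩ := Submodule.mem_span_singleton.1 (hg v hv)
    have hb0 : b ≠ 0 := fun e => (π (Projectivization.mk F v hv)).rep_nonzero (by rw [← hb, e, zero_smul])
    have h1 := (hφ β hβ hβ' (Projectivization.mk F v hv)).smul (inv_ne_zero a.ne_zero) (inv_ne_zero hb0)
    rwa [show φ β hβ hβ' (Projectivization.mk F v hv) = π (Projectivization.mk F v hv) from rfl, ← ha, Units.smul_def,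
      smul_smul, inv_mul_cancel₀ a.ne_zero, one_smul, ← hb, smul_smul, inv_mul_cancel₀ hb0, one_smul] at h1
  set B : V → V → F := fun u v => sf ((g : Mn) *ᵥ u) ((g : Mn) *ᵥ v) with hB
  have hBz : ∀ u v, sf u v = 0 → B u v = 0 := by
    intro u v e
    rcases eq_or_ne u 0 with rfl | hu
    · simp [hB]
    rcases eq_or_ne v 0 with rfl | hv
    · simp [hB]
    have hu' : τ.symm ∘ u ≠ 0 := fun h0 => hu (funext fun i => by simpa using congrFun h0 i)
    have hv' : τ.symm ∘ v ≠ 0 := fun h0 => hv (funext fun i => by simpa using congrFun h0 i)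
    have h1 := (RelT.perp hm (hrel _ hu') (hrel _ hv')).1 (by rw [sympForm_comp, e, map_zero])
    simpa [semiV, hB, ← Function.comp_assoc, show (τ ∘ τ.symm : F → F) = id by funext x; simp] using h1
  have hfac : ∀ v, v ≠ 0 → ∃ l : F, ∀ u, B u v = l * sf u v := by
    intro v hv
    obtain ⟨y₀, hy₀⟩ := exists_partner hv
    refine ⟨B y₀ v, fun u => ?_⟩
    have h1 := hBz (u - sf u v • y₀) v (by rw [sympForm_sub_left, sympForm_smul_left, hy₀, mul_one, sub_self])
    simp only [hB, mulVec_sub, mulVec_smul, sympForm_sub_left, sympForm_smul_left] at h1 ⊢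
    linear_combination h1
  choose! lam hlam using hfac
  have hlink : ∀ v w, v ≠ 0 → w ≠ 0 → sf v w ≠ 0 → lam v = lam w := by
    intro v w hv hw e
    have h1 := hlam v hv w
    have h2 := hlam w hw v
    simp only [hB] at h1 h2
    rw [sympForm_swap, h2, sympForm_swap v w] at h1
    refine mul_right_cancel₀ e ?_
    linear_combination h1
  let i₀ : V := Pi.single (Sum.inl ⟨0, by omega⟩) 1
  have hi₀ : i₀ ≠ 0 := by simp [i₀]
  have hconst : ∀ v, v ≠ 0 → lam v = lam i₀ := by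
    intro v hv
    obtain ⟨z, -, h1, h2⟩ := exists_both_ne_zero (F := F) (m := m) ⊤
      (by obtain ⟨z, hz⟩ := exists_sympForm_ne_zero hv; exact ⟨z, trivial, hz⟩)
      (by obtain ⟨z, hz⟩ := exists_sympForm_ne_zero hi₀; exact ⟨z, trivial, hz⟩)
    have hz : z ≠ 0 := fun h0 => h1 (by rw [h0, sympForm_zero_right])
    exact (hlink v z hv hz h1).trans (hlink i₀ z hi₀ hz h2).symm
  have hall : ∀ u v, B u v = lam i₀ * sf u v := by
    intro u v
    rcases eq_or_ne v 0 with rfl | hv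
    · simp [hB]
    · rw [hlam v hv u, hconst v hv]
  have hl0 : lam i₀ ≠ 0 := by
    intro h0
    refine semiV_ne_zero g (RingEquiv.refl F) hi₀ (sympForm_nondeg fun w => ?_)
    obtain ⟨w', rfl⟩ := semiV_surjective g (RingEquiv.refl F) w
    show B i₀ w' = 0
    rw [hall, h0, zero_mul]
  exact ⟨g, τ, ⟨Units.mk0 _ hl0, hall⟩, hrel⟩

/-- An element with every vector as eigenvector is trivial in `PSp`. -/
lemma pspMk_eq_of_eigen {s s' : Spn} (e : ∀ v : V, v ≠ 0 → ∃ a : F, s'.1 *ᵥ v = a • (s.1 *ᵥ v)) :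
    pspMk s = pspMk s' := by
  refine (QuotientGroup.mk'_eq_mk' _).2 ⟨s⁻¹ * s', mem_center_sp_of_fix_points fun p => ?_, mul_inv_cancel_left _ _⟩
  induction p using Projectivization.ind with | _ v hv => ?_
  obtain ⟨a, ha⟩ := e v hv
  rw [Projectivization.smul_mk, Projectivization.mk_eq_mk_iff']
  refine ⟨a, ?_⟩
  rw [sp_smul_def, Submonoid.coe_mul, ← mulVec_mulVec, ha, mulVec_smul, sp_inv_mulVec]

/-- An automorphism preserving the transvections is semilinear. -/
theorem classification_of_preserves (hm : 2 ≤ m) {β : MulAut PSpn} (hβ : Preserves β) (hβ' : Preserves β⁻¹) :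
    ∃ (g : GL (Fin m ⊕ Fin m) F) (τ : F ≃+* F), g ∈ Cfsg.GSp m F ∧ Cfsg.IsInducedBySemilinearPSp g τ β := by
  obtain ⟨g, τ, hg, hrel⟩ := exists_semilinear hm hβ hβ'
  refine ⟨g, τ, hg, fun s s' hs => ?_⟩
  have hact : ∀ v, semiV g τ (s.1 *ᵥ v) = s'.1 *ᵥ semiV g τ v := by
    intro v
    have e : τ ∘ (s.1 *ᵥ v) = s.1.map τ *ᵥ (τ ∘ v) := funext fun i => RingHom.map_mulVec τ.toRingHom s.1 v i
    show (g : Mn) *ᵥ (τ ∘ (s.1 *ᵥ v)) = s'.1 *ᵥ ((g : Mn) *ᵥ (τ ∘ v))
    rw [e, hs, mulVec_mulVec, mulVec_mulVec, Matrix.mul_assoc _ ((g⁻¹ : GL (Fin m ⊕ Fin m) F) : Mn),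
      Units.inv_mul, Matrix.mul_one]
  obtain ⟨s'', hs''⟩ := pspMk_surjective (β (pspMk s))
  show β (pspMk s) = pspMk s'
  rw [← hs'']
  refine pspMk_eq_of_eigen fun y hy => ?_
  obtain ⟨v, rfl⟩ := semiV_surjective g τ y
  have hv : v ≠ 0 := fun h0 => hy (by rw [h0]; simpa using semiV_smul g τ (0 : F) v)
  have hsv : s.1 *ᵥ v ≠ 0 := fun h0 => hv (sp_mulVec_injective s (show s.1 *ᵥ v = s.1 *ᵥ 0 by rw [h0, mulVec_zero]))
  have e' := hrel _ hsv
  rw [hact] at e'
  obtain ⟨a, -, ha⟩ := RelT.unique hm ((hrel v hv).act hs''.symm) e'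
  exact ⟨a, ha⟩

/-- Automorphisms of `PSp` are semilinear. -/
theorem aut_classification (hm : 2 ≤ m) {p : ℕ} [Fact p.Prime] [CharP F p] (h4 : m = 2 → p ≠ 2) (β : MulAut PSpn) :
    ∃ (g : GL (Fin m ⊕ Fin m) F) (τ : F ≃+* F), g ∈ Cfsg.GSp m F ∧ Cfsg.IsInducedBySemilinearPSp g τ β :=
  classification_of_preserves hm (preserves_of_ne_two hm h4 β) (preserves_of_ne_two hm h4 β⁻¹)

end CfsgLib.PSpAut
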