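/-
Similitudes and field automorphisms acting on PSp; uniqueness of the semilinear map.
-/
import Cfsg.Agent.Lib.KnownSimple.PSpAut.Classify
import Cfsg.Prelude.Def_KGroupFacts

set_option autoImplicit false

namespace CfsgLib.PSpAut

open Matrix CfsgLib.Classical

variable {F : Type*} [Field F] {m : ℕ}

local notation "V" => Fin m ⊕ Fin m → F
local notation "sf" => Cfsg.sympForm m F
local notation "Spn" => Matrix.symplecticGroup (Fin m) F
local notation "PSpn" => Cfsg.PSp m F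
local notation "GSpn" => Cfsg.GSp m F
local notation "Mn" => Matrix (Fin m ⊕ Fin m) (Fin m ⊕ Fin m) F

/-- The matrix of a similitude. -/
abbrev mat (g : GSpn) : Mn := ((g : GL (Fin m ⊕ Fin m) F) : Mn)

lemma mat_mul (a b : GSpn) : mat (a * b) = mat a * mat b := rfl

lemma mat_inv_mul (g : GSpn) : mat g⁻¹ * mat g = 1 := by rw [← mat_mul, inv_mul_cancel]; rfl

lemma mat_mul_inv (g : GSpn) : mat g * mat g⁻¹ = 1 := by rw [← mat_mul, mul_inv_cancel]; rfl

lemma mat_injective : Function.Injective (mat : GSpn → Mn) := fun _ _ e => Subtype.ext (Units.ext e)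

/-- The multiplier. -/
noncomputable def multFun (g : GSpn) : Fˣ := g.2.choose

lemma multFun_spec (g : GSpn) (u v : V) : sf (mat g *ᵥ u) (mat g *ᵥ v) = (multFun g : F) * sf u v :=
  g.2.choose_spec u v

lemma multFun_unique (hm : 1 ≤ m) (g : GSpn) {c : F} (h : ∀ u v, sf (mat g *ᵥ u) (mat g *ᵥ v) = c * sf u v) :
    (multFun g : F) = c := by
  obtain ⟨y, hy⟩ := exists_partner (m := m) (F := F) (u := Pi.single (Sum.inl ⟨0, hm⟩) 1) (by simp)
  have h1 := (multFun_spec g y (Pi.single (Sum.inl ⟨0, hm⟩) 1)).symm.trans (h y _)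
  rwa [hy, mul_one, mul_one] at h1

/-- The conjugate of a symplectic element by a similitude. -/
noncomputable def conjSpFun (g : GSpn) (s : Spn) : Spn :=
  ⟨mat g * s.1 * mat g⁻¹, mem_sp_iff.2 fun u v => by
    rw [← mulVec_mulVec, ← mulVec_mulVec, ← mulVec_mulVec, ← mulVec_mulVec, multFun_spec, sp_form, ← multFun_spec,
      mulVec_mulVec, mulVec_mulVec, mat_mul_inv, one_mulVec, one_mulVec]⟩

/-- Conjugation by a similitude on `Sp`. -/
noncomputable def conjSp (g : GSpn) : Spn ≃* Spn where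
  toFun := conjSpFun g
  invFun := conjSpFun g⁻¹
  left_inv s := Subtype.ext (by
    show mat g⁻¹ * (mat g * s.1 * mat g⁻¹) * mat g⁻¹⁻¹ = s.1
    rw [inv_inv, Matrix.mul_assoc (mat g) s.1, ← Matrix.mul_assoc, mat_inv_mul, Matrix.one_mul, Matrix.mul_assoc,
      mat_inv_mul, Matrix.mul_one])
  right_inv s := Subtype.ext (by
    show mat g * (mat g⁻¹ * s.1 * mat g⁻¹⁻¹) * mat g⁻¹ = s.1
    rw [inv_inv, Matrix.mul_assoc (mat g⁻¹) s.1, ← Matrix.mul_assoc, mat_mul_inv, Matrix.one_mul, Matrix.mul_assoc,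
      mat_mul_inv, Matrix.mul_one])
  map_mul' a b := Subtype.ext (by
    show mat g * (a.1 * b.1) * mat g⁻¹ = mat g * a.1 * mat g⁻¹ * (mat g * b.1 * mat g⁻¹)
    rw [Matrix.mul_assoc (mat g * a.1) (mat g⁻¹), ← Matrix.mul_assoc (mat g⁻¹) (mat g * b.1), ← Matrix.mul_assoc (mat g⁻¹) (mat g),
      mat_inv_mul, Matrix.one_mul]
    simp only [Matrix.mul_assoc])

lemma conjSp_coe (g : GSpn) (s : Spn) : (conjSp g s).1 = mat g * s.1 * mat g⁻¹ := rfl

/-- An automorphism of `Sp` on the central quotient. -/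
noncomputable def descendPSp : MulAut Spn →* MulAut PSpn where
  toFun α := QuotientGroup.congr _ _ α (Subgroup.characteristic_iff_map_eq.1 inferInstance α)
  map_one' := by ext x; induction x using QuotientGroup.induction_on with | _ s => rfl
  map_mul' a b := by ext x; induction x using QuotientGroup.induction_on with | _ s => rfl

lemma eq_of_pspMk_eq {α β : MulAut PSpn} (e : ∀ s : Spn, α (pspMk s) = β (pspMk s)) : α = β := by
  refine MulEquiv.ext fun x => ?_
  induction x using QuotientGroup.induction_on with | _ s => exact e s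

/-- Conjugation by similitudes on `PSp`. -/
noncomputable def conjPSp : GSpn →* MulAut PSpn :=
  descendPSp.comp
    { toFun := conjSp
      map_one' := MulEquiv.ext fun s => Subtype.ext (by
        rw [conjSp_coe, inv_one, show mat (1 : GSpn) = 1 from rfl, Matrix.one_mul, Matrix.mul_one]; rfl)
      map_mul' := fun a b => MulEquiv.ext fun s => Subtype.ext (by
        rw [MulAut.mul_apply, conjSp_coe, conjSp_coe, conjSp_coe, _root_.mul_inv_rev, mat_mul, mat_mul]
        simp only [Matrix.mul_assoc]) }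

lemma conjPSp_mk (g : GSpn) (s : Spn) : conjPSp g (pspMk s) = pspMk (conjSp g s) := rfl

/-- `Sp` inside `GSp`. -/
noncomputable def toGSp : Spn →* GSpn :=
  (MonoidHom.toHomUnits (Matrix.symplecticGroup (Fin m) F).subtype).codRestrict _ fun s =>
    ⟨1, fun u v => (sp_form s u v).trans (one_mul _).symm⟩

lemma mat_toGSp (s : Spn) : mat (toGSp s) = s.1 := rfl

lemma conjPSp_toGSp (s : Spn) : conjPSp (toGSp s) = MulAut.conj (pspMk s) := eq_of_pspMk_eq fun t => by
  rw [conjPSp_mk, MulAut.conj_apply, ← map_inv, ← map_mul, ← map_mul]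
  refine congrArg pspMk (Subtype.ext ?_)
  rw [conjSp_coe, ← map_inv, mat_toGSp, mat_toGSp]
  rfl

lemma conjPSp_eq_one_of_scalar {g : GSpn} {c : F} (hg : mat g = c • 1) : conjPSp g = 1 := eq_of_pspMk_eq fun s => by
  rw [conjPSp_mk, MulAut.one_apply]
  refine congrArg pspMk (Subtype.ext ?_)
  have h1 : s.1 * mat g = mat g * s.1 := by
    rw [hg, Matrix.mul_smul, Matrix.smul_mul, Matrix.mul_one, Matrix.one_mul]
  rw [conjSp_coe, ← h1, Matrix.mul_assoc, mat_mul_inv, Matrix.mul_one]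

lemma fieldSp_mem (τ : F ≃+* F) (s : Spn) : s.1.map τ ∈ Spn := by
  refine mem_sp_iff.2 fun u v => ?_
  have key : ∀ w : V, s.1.map τ *ᵥ w = τ ∘ (s.1 *ᵥ (τ.symm ∘ w)) := fun w => by
    funext i
    rw [Function.comp_apply, show τ ((s.1 *ᵥ (τ.symm ∘ w)) i) = τ.toRingHom ((s.1 *ᵥ (τ.symm ∘ w)) i) from rfl,
      RingHom.map_mulVec, ← Function.comp_assoc,
      show (⇑τ.toRingHom ∘ ⇑τ.symm) = id from funext fun x => τ.apply_symm_apply x]
    rfl
  rw [key, key, sympForm_comp, sp_form, ← sympForm_comp, ← Function.comp_assoc, ← Function.comp_assoc,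
    show (τ ∘ τ.symm : F → F) = id by funext x; simp, Function.id_comp, Function.id_comp]

/-- A field automorphism applied to the entries. -/
noncomputable def fieldSp (τ : F ≃+* F) : Spn ≃* Spn where
  toFun s := ⟨_, fieldSp_mem τ s⟩
  invFun s := ⟨_, fieldSp_mem τ.symm s⟩
  left_inv s := Subtype.ext (Matrix.ext fun _ _ => τ.symm_apply_apply _)
  right_inv s := Subtype.ext (Matrix.ext fun _ _ => τ.apply_symm_apply _)
  map_mul' a b := Subtype.ext (Matrix.map_mul (f := τ.toRingHom))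

lemma fieldSp_coe (τ : F ≃+* F) (s : Spn) : (fieldSp τ s).1 = s.1.map τ := rfl

/-- The standard field automorphisms of `PSp`. -/
noncomputable def fieldPSp : (F ≃+* F) →* MulAut PSpn :=
  descendPSp.comp
    { toFun := fieldSp
      map_one' := MulEquiv.ext fun _ => Subtype.ext (Matrix.ext fun _ _ => rfl)
      map_mul' := fun _ _ => MulEquiv.ext fun _ => Subtype.ext (Matrix.ext fun _ _ => rfl) }

lemma fieldPSp_mk (τ : F ≃+* F) (s : Spn) : fieldPSp τ (pspMk s) = pspMk (fieldSp τ s) := rfl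

lemma isStdFieldAutPSp_iff (τ : F ≃+* F) (β : MulAut PSpn) : Cfsg.IsStdFieldAutPSp τ β ↔ β = fieldPSp τ := by
  constructor
  · exact fun h => eq_of_pspMk_eq fun s => h s (fieldSp τ s) rfl
  · rintro rfl s s' e
    exact congrArg pspMk (Subtype.ext e.symm)

lemma fieldGSp_mem (τ : F ≃+* F) (g : GSpn) :
    GeneralLinearGroup.map τ.toRingHom (g : GL (Fin m ⊕ Fin m) F) ∈ Cfsg.GSp m F := by
  refine ⟨Units.map τ.toRingHom.toMonoidHom (multFun g), fun u v => ?_⟩
  have key : ∀ w : V, ((GeneralLinearGroup.map τ.toRingHom (g : GL (Fin m ⊕ Fin m) F) : GL (Fin m ⊕ Fin m) F) : Mn) *ᵥ w =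
      τ ∘ (mat g *ᵥ (τ.symm ∘ w)) := fun w => by
    funext i
    rw [Function.comp_apply, show τ ((mat g *ᵥ (τ.symm ∘ w)) i) = τ.toRingHom ((mat g *ᵥ (τ.symm ∘ w)) i) from rfl,
      RingHom.map_mulVec, ← Function.comp_assoc,
      show (⇑τ.toRingHom ∘ ⇑τ.symm) = id from funext fun x => τ.apply_symm_apply x]
    rfl
  rw [key, key, sympForm_comp, multFun_spec, map_mul, ← sympForm_comp, ← Function.comp_assoc, ← Function.comp_assoc,
    show (τ ∘ τ.symm : F → F) = id by funext x; simp, Function.id_comp, Function.id_comp]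
  rfl

/-- A field automorphism applied to a similitude. -/
noncomputable def fieldGSp (τ : F ≃+* F) : GSpn →* GSpn :=
  ((GeneralLinearGroup.map τ.toRingHom).comp (Cfsg.GSp m F).subtype).codRestrict _ (fieldGSp_mem τ)

lemma mat_fieldGSp (τ : F ≃+* F) (g : GSpn) : mat (fieldGSp τ g) = (mat g).map τ := rfl

lemma fieldPSp_mul_conjPSp (τ : F ≃+* F) (g : GSpn) :
    fieldPSp τ * conjPSp g = conjPSp (fieldGSp τ g) * fieldPSp τ := eq_of_pspMk_eq fun s => by
  show fieldPSp τ (conjPSp g (pspMk s)) = conjPSp (fieldGSp τ g) (fieldPSp τ (pspMk s))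
  rw [conjPSp_mk, fieldPSp_mk, fieldPSp_mk, conjPSp_mk]
  refine congrArg pspMk (Subtype.ext ?_)
  rw [fieldSp_coe, conjSp_coe, conjSp_coe, fieldSp_coe, ← map_inv, mat_fieldGSp, mat_fieldGSp]
  simp only [show ∀ A B : Mn, (A * B).map τ = A.map τ * B.map τ from fun A B => Matrix.map_mul (f := τ.toRingHom)]

lemma eq_of_isInduced {g : GSpn} {τ : F ≃+* F} {β : MulAut PSpn}
    (hβ : Cfsg.IsInducedBySemilinearPSp (g : GL (Fin m ⊕ Fin m) F) τ β) : β = conjPSp g * fieldPSp τ :=
  eq_of_pspMk_eq fun s => hβ s (conjSp g (fieldSp τ s)) rfl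

lemma mem_inndiagPSp_iff {β : MulAut PSpn} :
    β ∈ Cfsg.inndiagPSp m F ↔ β ∈ (conjPSp : GSpn →* MulAut PSpn).range := by
  have key : ∀ γ : MulAut PSpn, Cfsg.IsInnerDiagonalAutPSp γ ↔ γ ∈ (conjPSp : GSpn →* MulAut PSpn).range := by
    intro γ
    constructor
    · rintro ⟨g, hg, hγ⟩
      refine ⟨⟨g, hg⟩, ?_⟩
      rw [eq_of_isInduced (g := ⟨g, hg⟩) hγ, show RingEquiv.refl F = 1 from rfl, map_one, mul_one]
    · rintro ⟨g, rfl⟩
      refine ⟨g, g.2, fun s s' e => congrArg pspMk (Subtype.ext ?_)⟩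
      rw [e, RingEquiv.coe_refl, Matrix.map_id]
      rfl
  show β ∈ Subgroup.closure _ ↔ _
  rw [show {β : MulAut PSpn | Cfsg.IsInnerDiagonalAutPSp β} = ((conjPSp : GSpn →* MulAut PSpn).range : Set _) from
    Set.ext key, Subgroup.closure_eq]

lemma inn_le_range_conjPSp : Cfsg.Inn PSpn ≤ (conjPSp : GSpn →* MulAut PSpn).range := by
  rintro _ ⟨x, rfl⟩
  induction x using QuotientGroup.induction_on with | _ s => exact ⟨_, conjPSp_toGSp s⟩

/-- The semilinear part is unique and the linear part is unique up to a scalar. -/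
lemma eq_one_of_conj_field_eq_one (hm : 2 ≤ m) {g : GSpn} {τ : F ≃+* F}
    (e : conjPSp g * fieldPSp τ = (1 : MulAut PSpn)) : τ = 1 ∧ ∃ c : F, mat g = c • 1 := by
  have key : ∀ v : V, v ≠ 0 → ∃ a : F, semiV (g : GL (Fin m ⊕ Fin m) F) τ v = a • v := by
    intro v hv
    set w := semiV (g : GL (Fin m ⊕ Fin m) F) τ v with hw
    have h1 : conjSp g (fieldSp τ (spT v 1)) = spT w ((multFun g : F)⁻¹) := by
      refine sp_ext fun y => ?_
      obtain ⟨z, rfl⟩ := semiV_surjective (g : GL (Fin m ⊕ Fin m) F) τ y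
      have hmap : ∀ (s : Spn) (z : V), s.1.map τ *ᵥ (τ ∘ z) = τ ∘ (s.1 *ᵥ z) := fun s z =>
        funext fun i => (RingHom.map_mulVec τ.toRingHom s.1 z i).symm
      rw [conjSp_coe, spT_apply, show semiV (g : GL (Fin m ⊕ Fin m) F) τ z = mat g *ᵥ (τ ∘ z) from rfl, mulVec_mulVec,
        Matrix.mul_assoc, mat_inv_mul, Matrix.mul_one, ← mulVec_mulVec, fieldSp_coe, hmap, spT_apply]
      rw [show sf (mat g *ᵥ (τ ∘ z)) w = (multFun g : F) * τ (sf z v) by
        rw [hw, semiV, multFun_spec, sympForm_comp], inv_mul_cancel_left₀ (multFun g).ne_zero,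
        show mat g *ᵥ (τ ∘ (z + (1 * sf z v) • v)) = semiV (g : GL (Fin m ⊕ Fin m) F) τ (z + (1 * sf z v) • v) from rfl,
        semiV_add, semiV_smul, one_mul]
      rfl
    have h2 : pspMk (spT w ((multFun g : F)⁻¹)) = pspMk (spT v 1) := by
      rw [← h1]; exact DFunLike.congr_fun e (pspMk (spT v 1))
    obtain ⟨a, ha⟩ := Submodule.mem_span_singleton.1
      (pspMk_spT_eq_imp hm (semiV_ne_zero _ τ hv) (inv_ne_zero (multFun g).ne_zero) h2)
    exact ⟨a, ha.symm⟩
  have hline : ∀ v : V, ∃ a : F, semiV (g : GL (Fin m ⊕ Fin m) F) τ v = a • v := fun v => by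
    rcases eq_or_ne v 0 with rfl | hv
    · exact ⟨0, by simp [semiV]⟩
    · exact key v hv
  choose a ha using hline
  let E : Fin m ⊕ Fin m → V := fun i => Pi.single i 1
  have hEg : ∀ i, mat g *ᵥ E i = a (E i) • E i := fun i => by
    rw [← ha, semiV]
    congr 1
    funext k
    rcases eq_or_ne k i with rfl | hk <;> simp [E, *]
  have hpair : ∀ i j, i ≠ j → ∀ x : F, x ≠ 0 → τ x * a (E j) = a (E i) * x := by
    intro i j hij x hx
    have h1 := ha (E i + x • E j)
    rw [semiV_add, semiV_smul, ha, ha] at h1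
    have hi := congrFun h1 i
    have hj := congrFun h1 j
    simp [E, hij, hij.symm] at hi hj
    rw [← hi] at hj
    exact hj
  let i₀ : Fin m ⊕ Fin m := Sum.inl ⟨0, by omega⟩
  let i₁ : Fin m ⊕ Fin m := Sum.inl ⟨1, by omega⟩
  have h01 : i₀ ≠ i₁ := by simp [i₀, i₁]
  have hconst : ∀ i, a (E i) = a (E i₀) := fun i => by
    rcases eq_or_ne i₀ i with rfl | hi
    · rfl
    · simpa using hpair i₀ i hi 1 one_ne_zero
  have ha0 : a (E i₀) ≠ 0 := fun h0 => semiV_ne_zero (g : GL (Fin m ⊕ Fin m) F) τ (v := E i₀) (by simp [E])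
    (by rw [ha, h0, zero_smul])
  refine ⟨RingEquiv.ext fun x => ?_, a (E i₀), Matrix.ext_of_mulVec_single fun i => ?_⟩
  · rw [RingAut.one_apply]
    rcases eq_or_ne x 0 with rfl | hx
    · exact map_zero τ
    · have h1 := hpair i₀ i₁ h01 x hx
      rw [hconst i₁] at h1
      exact mul_right_cancel₀ ha0 (h1.trans (mul_comm _ _))
  · rw [show Pi.single i 1 = E i from rfl, hEg, hconst, smul_mulVec, one_mulVec]

lemma conjPSp_eq_one_iff (hm : 2 ≤ m) (g : GSpn) : conjPSp g = (1 : MulAut PSpn) ↔ ∃ c : F, mat g = c • 1 := by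
  refine ⟨fun e => (eq_one_of_conj_field_eq_one hm (τ := 1) ?_).2, fun ⟨c, hc⟩ => conjPSp_eq_one_of_scalar hc⟩
  rw [e, one_mul, map_one]

lemma fieldPSp_injective (hm : 2 ≤ m) : Function.Injective (fieldPSp : (F ≃+* F) →* MulAut PSpn) :=
  (injective_iff_map_eq_one _).2 fun τ e =>
    (eq_one_of_conj_field_eq_one hm (g := 1) (τ := τ) (by rw [map_one, one_mul]; exact e)).1

lemma conj_field_injective (hm : 2 ≤ m) {g g' : GSpn} {τ τ' : F ≃+* F}
    (e : conjPSp g * fieldPSp τ = (conjPSp g' * fieldPSp τ' : MulAut PSpn)) : τ = τ' := by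
  have h1 : conjPSp (g'⁻¹ * g) * fieldPSp (τ * τ'⁻¹) = (1 : MulAut PSpn) := by
    rw [map_mul, map_inv, map_mul, map_inv, mul_assoc, ← mul_assoc (conjPSp g), e]
    group
  exact mul_inv_eq_one.1 (eq_one_of_conj_field_eq_one hm h1).1

variable [Fintype F]

lemma normal_range_conjPSp (hm : 2 ≤ m) {p : ℕ} [Fact p.Prime] [CharP F p] :
    ((conjPSp : GSpn →* MulAut PSpn).range).Normal := by
  rcases eq_or_ne p 2 with rfl | hp
  · have h : (conjPSp : GSpn →* MulAut PSpn).range = Cfsg.Inn PSpn := by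
      refine le_antisymm ?_ inn_le_range_conjPSp
      rintro _ ⟨g, rfl⟩
      obtain ⟨c, hc⟩ := (PerfectRing.bijective_frobenius (R := F) (p := 2)).2 (multFun g : F)
      change c ^ 2 = _ at hc
      have hc0 : c ≠ 0 := fun h0 => (multFun g).ne_zero (by rw [← hc, h0, zero_pow two_ne_zero])
      obtain ⟨s, hs⟩ : ∃ s : Spn, s.1 = c⁻¹ • mat g := ⟨⟨_, mem_sp_iff.2 fun u v => by
        rw [smul_mulVec, smul_mulVec, sympForm_smul_left, sympForm_smul_right, multFun_spec, ← hc]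
        field_simp⟩, rfl⟩
      refine ⟨pspMk s, ?_⟩
      rw [← conjPSp_toGSp]
      refine eq_of_pspMk_eq fun t => congrArg pspMk (Subtype.ext ?_)
      have hinv : mat (toGSp s)⁻¹ = c • mat g⁻¹ := by
        refine left_inv_eq_right_inv (mat_inv_mul _) ?_
        rw [mat_toGSp, hs, Matrix.smul_mul, Matrix.mul_smul, mat_mul_inv, smul_smul, inv_mul_cancel₀ hc0, one_smul]
      show (conjSp (toGSp s) t).1 = (conjSp g t).1
      rw [conjSp_coe, conjSp_coe, hinv, mat_toGSp, hs, Matrix.smul_mul, Matrix.smul_mul, Matrix.mul_smul, smul_smul,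
        inv_mul_cancel₀ hc0, one_smul]
    rw [h]; infer_instance
  · refine ⟨fun x hx α => ?_⟩
    obtain ⟨g, rfl⟩ := hx
    obtain ⟨a, τ, ha, hα⟩ := aut_classification hm (fun _ => hp) α
    rw [eq_of_isInduced (g := ⟨a, ha⟩) hα]
    refine ⟨⟨a, ha⟩ * fieldGSp τ g * ⟨a, ha⟩⁻¹, ?_⟩
    rw [map_mul, map_mul, map_inv,
      show conjPSp ⟨a, ha⟩ * fieldPSp τ * conjPSp g = conjPSp ⟨a, ha⟩ * conjPSp (fieldGSp τ g) * fieldPSp τ by
        rw [mul_assoc, fieldPSp_mul_conjPSp, mul_assoc]]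
    group

end CfsgLib.PSpAut
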