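/-
Field automorphisms of PSp of prime order: Lang's theorem in GSp, centralisers and class splitting in Inndiag.
-/
import Cfsg.Agent.Lib.KnownSimple.PSpAut.Out
import Cfsg.Agent.Lib.KnownSimple.PSUAut.FieldClass
import Cfsg.Agent.Lib.Classical.AltBasis

set_option autoImplicit false

namespace CfsgLib.PSpAut

open Matrix CfsgLib.Classical
open CfsgLib.PSLAut (fixedField fixedUnits normHom nuHom twNorm)

variable {F : Type*} [Field F] {m : ℕ}

local notation "V" => Fin m ⊕ Fin m → F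
local notation "sf" => Cfsg.sympForm m F
local notation "Spn" => Matrix.symplecticGroup (Fin m) F
local notation "PSpn" => Cfsg.PSp m F
local notation "GSpn" => Cfsg.GSp m F
local notation "Mn" => Matrix (Fin m ⊕ Fin m) (Fin m ⊕ Fin m) F
local notation "GLn" => GL (Fin m ⊕ Fin m) F

lemma map_mulVec_comp' (τ : F ≃+* F) (M : Mn) (z : V) : M.map τ *ᵥ (τ ∘ z) = τ ∘ (M *ᵥ z) :=
  funext fun i => (RingHom.map_mulVec τ.toRingHom M z i).symm

lemma comp_symm_comp (τ : F ≃+* F) (w : V) : τ ∘ (τ.symm ∘ w) = w := funext fun _ => τ.apply_symm_apply _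

/-! ### Fixed classes in characteristic two -/

section Two

variable [Fintype F] [CharP F 2]

lemma exists_sq (k : F) : ∃ s : F, s ^ 2 = k := by
  haveI : Fact (Nat.Prime 2) := ⟨Nat.prime_two⟩
  exact (PerfectRing.bijective_frobenius (R := F) (p := 2)).2 k

/-- A field automorphism fixes the classes of the elements fixing a vector and centralising its radical. -/
lemma isConj_field_of_central {x : V} (hx : x ≠ 0) {z : Spn} (hzx : z.1 *ᵥ x = x)
    (hz : ∀ g ∈ (qSp x : Subgroup Spn), Commute z g) (τ : F ≃+* F) :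
    ∃ k : Spn, fieldSp τ z = k * z * k⁻¹ := by
  rcases centralizer_qSp hx hzx hz with ⟨c, rfl⟩ | ⟨-, a, hli, hxa, -, k, hk⟩
  · obtain ⟨s, rfl⟩ := exists_sq c
    rw [show spT x (s ^ 2) = spT (s • x) 1 by rw [spT_smul, one_mul]]
    set w := s • x
    have e : fieldSp τ (spT w 1) = spT (τ ∘ w) 1 := sp_ext fun y => by
      rw [fieldSp_coe, ← comp_symm_comp τ y, map_mulVec_comp', spT_apply, spT_apply, sympForm_comp]
      funext i; simp
    rcases eq_or_ne w 0 with h0 | hw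
    · refine ⟨1, ?_⟩
      rw [e, h0, show (τ ∘ (0 : V)) = 0 by funext i; simp, one_mul, inv_one, mul_one]
    · obtain ⟨g, -, hg⟩ := exists_sp_move hw (w := τ ∘ w) fun h0 => hw (funext fun i => τ.injective (by
        simpa using congrFun h0 i))
      exact ⟨g, by rw [e, spT_conj, hg]⟩
  · obtain ⟨x', a', e₀, he, hli', hxa', hform⟩ : ∃ (x' a' : V) (e₀ : F), (e₀ = 0 ∨ e₀ = 1) ∧
        LinearIndependent F ![x', a'] ∧ sf x' a' = 0 ∧
        ∀ y, z.1 *ᵥ y = y + sf y x' • a' + sf a' y • x' + (e₀ * sf y x') • x' := by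
      by_cases hk0 : k = 0
      · exact ⟨x, a, 0, Or.inl rfl, hli, hxa, fun y => by rw [hk, hk0]⟩
      obtain ⟨s, rfl⟩ := exists_sq k
      have hs : s ≠ 0 := fun h0 => hk0 (by rw [h0, zero_pow two_ne_zero])
      refine ⟨s • x, s⁻¹ • a, 1, Or.inr rfl, ?_, ?_, fun y => ?_⟩
      · rw [LinearIndependent.pair_iff' (smul_ne_zero hs hx)]
        intro c hc
        exact (LinearIndependent.pair_iff' hx).1 hli (s * (c * s)) (by
          have h1 := congrArg (fun v => s • v) hc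
          simpa [smul_smul, hs] using h1)
      · rw [sympForm_smul_left, sympForm_smul_right, hxa, mul_zero, mul_zero]
      · rw [hk, sympForm_smul_left, sympForm_smul_right]
        match_scalars <;> field_simp
    have hτ : ∀ w : V, w ≠ 0 → τ ∘ w ≠ 0 := fun w hw h0 => hw (funext fun i => τ.injective (by
      simpa using congrFun h0 i))
    have hx' : x' ≠ 0 := by simpa using hli'.ne_zero 0
    obtain ⟨g, hg1, hg2⟩ := exists_move_pair hli' hxa' (u := τ ∘ x') (v := τ ∘ a') (hτ _ hx')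
      (by rw [sympForm_comp, hxa', map_zero]) (fun hmem => by
        obtain ⟨c, hc⟩ := Submodule.mem_span_singleton.1 hmem
        refine (LinearIndependent.pair_iff' hx').1 hli' (τ.symm c) (funext fun i => τ.injective ?_)
        have := congrFun hc i
        simpa using this)
    refine ⟨g, sp_ext fun y => ?_⟩
    have hR : (g * z * g⁻¹).1 *ᵥ y = y + sf y (τ ∘ x') • (τ ∘ a') + sf (τ ∘ a') y • (τ ∘ x') +
        (e₀ * sf y (τ ∘ x')) • (τ ∘ x') := by
      rw [Submonoid.coe_mul, Submonoid.coe_mul, ← mulVec_mulVec, ← mulVec_mulVec, hform]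
      simp only [mulVec_add, mulVec_smul, sp_mulVec_inv, hg1, hg2, ← sp_form g (g⁻¹.1 *ᵥ y) x',
        ← sp_form g a' (g⁻¹.1 *ᵥ y)]
    rw [hR, fieldSp_coe, ← comp_symm_comp τ y, map_mulVec_comp', hform, sympForm_comp, sympForm_comp]
    funext i
    rcases he with rfl | rfl <;> simp

lemma preserves_of_conj_field (hm : 2 ≤ m) {x α : MulAut PSpn} {τ : F ≃+* F} (e : α * x * α⁻¹ = fieldPSp τ) :
    Preserves x := by
  haveI : Fact (Nat.Prime 2) := ⟨Nat.prime_two⟩
  intro v hv c hc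
  obtain ⟨x', z, hx', hzx, hzc, hz⟩ := exists_central_image hm (p := 2) α hv c
  obtain ⟨k, hk⟩ := isConj_field_of_central hx' hzx hzc τ
  obtain ⟨y, hy⟩ := pspMk_surjective (α.symm (pspMk k))
  refine ⟨y.1 *ᵥ v, c, fun h0 => hv (sp_mulVec_injective y (show y.1 *ᵥ v = y.1 *ᵥ 0 by rw [h0, mulVec_zero])), hc, ?_⟩
  refine α.injective ?_
  rw [show α (x (pspMk (spT v c))) = (α * x * α⁻¹) (α (pspMk (spT v c))) by simp, e, hz, fieldPSp_mk, hk, ← spT_conj,
    map_mul, map_mul, map_inv, map_mul, map_mul, map_inv, map_mul, map_mul, map_inv, hy, MulEquiv.apply_symm_apply, hz]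

end Two

/-! ### Twisted norms -/

/-- The twisted norm in `GSp`. -/
noncomputable def twGSp (σ : F ≃+* F) : ℕ → GSpn → GSpn
  | 0, _ => 1
  | k + 1, g => g * fieldGSp σ (twGSp σ k g)

lemma conj_field_pow (σ : F ≃+* F) (g : GSpn) : ∀ k : ℕ,
    (conjPSp g * fieldPSp σ : MulAut PSpn) ^ k = conjPSp (twGSp σ k g) * fieldPSp (σ ^ k)
  | 0 => by rw [pow_zero, pow_zero, twGSp, map_one, map_one, one_mul]
  | k + 1 => by
    rw [pow_succ', conj_field_pow σ g k, twGSp, map_mul, pow_succ', map_mul fieldPSp, mul_assoc,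
      ← mul_assoc (fieldPSp σ), fieldPSp_mul_conjPSp]
    simp only [mul_assoc]

/-- The indices in a row. -/
noncomputable def idxEquiv (m : ℕ) : Fin m ⊕ Fin m ≃ Fin (2 * m) := Fintype.equivFinOfCardEq (by simp; omega)

/-- Renumbering of the indices. -/
noncomputable def rowGL : GLn ≃* GL (Fin (2 * m)) F :=
  Units.mapEquiv (Matrix.reindexAlgEquiv F F (idxEquiv m)).toMulEquiv

lemma rowGL_val (g : GLn) (i j : Fin (2 * m)) :
    (rowGL g : Matrix (Fin (2 * m)) (Fin (2 * m)) F) i j = (g : Mn) ((idxEquiv m).symm i) ((idxEquiv m).symm j) := rfl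

lemma rowGL_map (σ : F ≃+* F) (g : GLn) :
    rowGL (GeneralLinearGroup.map σ.toRingHom g) = CfsgLib.PSLAut.fieldGL σ (rowGL g) :=
  Units.ext (Matrix.ext fun _ _ => rfl)

lemma rowGL_scalar (c : Fˣ) :
    rowGL (GeneralLinearGroup.scalar (Fin m ⊕ Fin m) c) = GeneralLinearGroup.scalar (Fin (2 * m)) c := by
  refine Units.ext (Matrix.ext fun i j => ?_)
  rw [rowGL_val]
  rcases eq_or_ne i j with rfl | h <;> simp [*]

lemma rowGL_twGSp (σ : F ≃+* F) (g : GSpn) : ∀ k,
    rowGL ((twGSp σ k g : GSpn) : GLn) = twNorm σ k (rowGL (g : GLn))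
  | 0 => map_one _
  | k + 1 => by
    rw [twGSp, Subgroup.coe_mul, map_mul, show ((fieldGSp σ (twGSp σ k g) : GSpn) : GLn) =
      GeneralLinearGroup.map σ.toRingHom ((twGSp σ k g : GSpn) : GLn) from rfl, rowGL_map, rowGL_twGSp σ g k]
    rfl

lemma scalar_mem_GSp (c : Fˣ) : GeneralLinearGroup.scalar (Fin m ⊕ Fin m) c ∈ Cfsg.GSp m F := by
  refine ⟨c * c, fun u v => ?_⟩
  rw [GeneralLinearGroup.coe_scalar, scalar_apply, ← smul_one_eq_diagonal, smul_mulVec, one_mulVec, smul_mulVec,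
    one_mulVec, sympForm_smul_left, sympForm_smul_right, Units.val_mul, mul_assoc]

/-- Scalar similitudes. -/
noncomputable def scalarGSp : Fˣ →* GSpn :=
  (GeneralLinearGroup.scalar (Fin m ⊕ Fin m)).codRestrict _ scalar_mem_GSp

lemma mat_scalarGSp (c : Fˣ) : mat (scalarGSp c : GSpn) = (c : F) • 1 := by
  show ((GeneralLinearGroup.scalar (Fin m ⊕ Fin m) c : GLn) : Mn) = _
  rw [GeneralLinearGroup.coe_scalar, scalar_apply, smul_one_eq_diagonal]

lemma conjPSp_scalarGSp (c : Fˣ) : conjPSp (scalarGSp c) = (1 : MulAut PSpn) :=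
  conjPSp_eq_one_of_scalar (mat_scalarGSp c)

lemma exists_scalarGSp (hm : 2 ≤ m) {g : GSpn} (e : conjPSp g = (1 : MulAut PSpn)) : ∃ c : Fˣ, g = scalarGSp c := by
  obtain ⟨c, hc⟩ := (conjPSp_eq_one_iff hm g).1 e
  haveI : Nonempty (Fin m ⊕ Fin m) := ⟨Sum.inl ⟨0, by omega⟩⟩
  have hc0 : c ≠ 0 := fun h0 => (g : GLn).ne_zero (show mat g = 0 by rw [hc, h0, zero_smul])
  exact ⟨Units.mk0 c hc0, mat_injective (by rw [hc, mat_scalarGSp, Units.val_mk0])⟩

section Fin

variable [Fintype F] {σ : F ≃+* F} {r : ℕ} (hσ : orderOf σ = r)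

include hσ in
/-- Lang's theorem in `GSp`, up to scalars. -/
lemma exists_gsp_coboundary (hm : 2 ≤ m) {g : GSpn} {c : Fˣ} (hc : twGSp σ r g = scalarGSp c) :
    ∃ (k : GSpn) (d : Fˣ), g = scalarGSp d * (k * (fieldGSp σ k)⁻¹) := by
  classical
  have hc' : twNorm σ r (rowGL (g : GLn)) = GeneralLinearGroup.scalar (Fin (2 * m)) c := by
    rw [← rowGL_twGSp, hc]; exact rowGL_scalar c
  obtain ⟨a', d, ha'⟩ := CfsgLib.PSLAut.exists_coboundary_of_scalar hσ hc' (by omega)
  set a : GLn := rowGL.symm a' with ha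
  set g' : GSpn := scalarGSp d⁻¹ * g with hg'
  have hga : (g' : GLn) = a * (GeneralLinearGroup.map σ.toRingHom a)⁻¹ := by
    refine rowGL.injective ?_
    rw [map_mul, map_inv, rowGL_map, ha, MulEquiv.apply_symm_apply, hg', Subgroup.coe_mul, map_mul, ha',
      show ((scalarGSp d⁻¹ : GSpn) : GLn) = GeneralLinearGroup.scalar (Fin m ⊕ Fin m) d⁻¹ from rfl, rowGL_scalar,
      ← mul_assoc, ← map_mul, inv_mul_cancel, map_one, one_mul]
  set μ : F := (multFun g' : F) with hμ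
  let i₀ : Fin m ⊕ Fin m := Sum.inr ⟨0, by omega⟩
  let A : Mn := (a : Mn)
  have hAg : A = mat g' * A.map σ := by
    have h1 : a = (g' : GLn) * GeneralLinearGroup.map σ.toRingHom a := by rw [hga, inv_mul_cancel_right]
    exact congrArg Units.val h1
  set B : V → V → F := fun u v => sf (A *ᵥ u) (A *ᵥ v) with hB
  have hBσ : ∀ u v, B (σ ∘ u) (σ ∘ v) = μ * σ (B u v) := by
    intro u v
    simp only [hB]
    conv_lhs => rw [hAg]
    rw [← mulVec_mulVec, ← mulVec_mulVec, multFun_spec, map_mulVec_comp', map_mulVec_comp', sympForm_comp]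
  obtain ⟨i, j, hij⟩ : ∃ i j : Fin m ⊕ Fin m, B (Pi.single i 1) (Pi.single j 1) ≠ 0 := by
    by_contra hcon
    push Not at hcon
    obtain ⟨y, hy⟩ := exists_sympForm_ne_zero (m := m) (F := F) (v := A *ᵥ Pi.single i₀ 1) fun h0 => by
      have h1 := congrArg (fun w => ((a⁻¹ : GLn) : Mn) *ᵥ w) h0
      simp only [A, mulVec_mulVec, Units.inv_mul, one_mulVec, mulVec_zero] at h1
      simpa using congrFun h1 i₀
    refine hy ?_
    rw [show y = A *ᵥ (((a⁻¹ : GLn) : Mn) *ᵥ y) by rw [mulVec_mulVec, Units.mul_inv, one_mulVec],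
      pi_eq_sum_univ' (((a⁻¹ : GLn) : Mn) *ᵥ y)]
    simp only [mulVec_sum, mulVec_smul]
    rw [← spBilin_apply, map_sum]
    refine Finset.sum_eq_zero fun k _ => ?_
    rw [map_smul, spBilin_apply]
    exact smul_eq_zero_of_right _ (hcon i₀ k)
  set ν : F := B (Pi.single i 1) (Pi.single j 1) with hν
  have hsingle : ∀ k : Fin m ⊕ Fin m, σ ∘ (Pi.single k (1 : F) : V) = Pi.single k 1 := fun k => by
    funext l
    rcases eq_or_ne l k with rfl | hl <;> simp [*]
  have hμν : μ * σ ν = ν := by rw [hν, ← hBσ, hsingle, hsingle]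
  let H : Matrix (Fin m ⊕ Fin m) (Fin m ⊕ Fin m) (fixedField σ) := Matrix.of fun k l =>
    ⟨B (Pi.single k 1) (Pi.single l 1) / ν, by
      show σ (B (Pi.single k 1) (Pi.single l 1) / ν) = B (Pi.single k 1) (Pi.single l 1) / ν
      rw [map_div₀, div_eq_div_iff ((map_ne_zero σ).2 hij) hij]
      have h1 := hBσ (Pi.single k 1) (Pi.single l 1)
      rw [hsingle, hsingle] at h1
      linear_combination -(σ ν) * h1 - (σ (B (Pi.single k 1) (Pi.single l 1))) * hμν⟩
  let ι : fixedField σ →+* F := (fixedField σ).subtype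
  have hH : H.map ι = ν⁻¹ • (Aᵀ * Matrix.J (Fin m) F * A) := by
    ext k l
    show B (Pi.single k 1) (Pi.single l 1) / ν = _
    simp only [hB]
    rw [sympForm_mulVec, Matrix.smul_apply, smul_eq_mul, div_eq_inv_mul]
    simp
  let Bb := Matrix.toBilin' H
  have hB0 : ∀ u v, ι (Bb u v) = ν⁻¹ * B (ι ∘ u) (ι ∘ v) := by
    intro u v
    rw [Matrix.toBilin'_apply', RingHom.map_dotProduct, show ι ∘ (H *ᵥ v) = H.map ι *ᵥ (ι ∘ v) from
      funext fun k => RingHom.map_mulVec ι H v k, hH, smul_mulVec, dotProduct_smul, smul_eq_mul]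
    simp only [hB, sympForm_mulVec]
  have hAlt : Bb.IsAlt := fun u => ι.injective (by
    rw [hB0, map_zero]; simp only [hB]; rw [sympForm_self, mul_zero])
  obtain ⟨m', k, b, hb1, hb2, hb3, hb4⟩ := exists_alt_basis Bb hAlt
  have hk : k = 0 := by
    by_contra hk
    have h1 : ∀ l, B (ι ∘ b (Sum.inr ⟨0, Nat.pos_of_ne_zero hk⟩)) (Pi.single l 1) = 0 := fun l => by
      have h2 := congrArg ι (hb4 ⟨0, Nat.pos_of_ne_zero hk⟩ (Pi.single l 1))
      rw [map_zero, hB0, show ι ∘ (Pi.single l (1 : fixedField σ) : Fin m ⊕ Fin m → fixedField σ) = Pi.single l 1 by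
        funext n; rcases eq_or_ne n l with rfl | hn <;> simp [*]] at h2
      exact (mul_eq_zero.1 h2).resolve_left (inv_ne_zero hij)
    refine b.ne_zero (Sum.inr ⟨0, Nat.pos_of_ne_zero hk⟩) (funext fun n => ι.injective ?_)
    set w : V := ι ∘ b (Sum.inr ⟨0, Nat.pos_of_ne_zero hk⟩) with hw
    have h3 : A *ᵥ w = 0 := sympForm_nondeg fun y => by
      rw [show y = A *ᵥ (((a⁻¹ : GLn) : Mn) *ᵥ y) by rw [mulVec_mulVec, Units.mul_inv, one_mulVec],
        pi_eq_sum_univ' (((a⁻¹ : GLn) : Mn) *ᵥ y)]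
      simp only [mulVec_sum, mulVec_smul]
      rw [← spBilin_apply, map_sum]
      refine Finset.sum_eq_zero fun l _ => ?_
      rw [map_smul, spBilin_apply]
      exact smul_eq_zero_of_right _ (h1 l)
    have h4 := congrArg (fun z => ((a⁻¹ : GLn) : Mn) *ᵥ z) h3
    simp only [A, mulVec_mulVec, Units.inv_mul, one_mulVec, mulVec_zero] at h4
    exact (congrFun h4 n).trans (map_zero ι).symm
  subst hk
  have hm' : m' = m := by
    have h1 := Module.finrank_eq_card_basis b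
    simp at h1
    omega
  subst m'
  let P : Matrix (Fin m ⊕ Fin m) (Fin m ⊕ Fin m) (fixedField σ) := Matrix.of fun k l => b (Sum.inl l.swap) k
  have hP : Pᵀ * H * P = Matrix.J (Fin m) (fixedField σ) := by
    ext k l
    have e : (Pᵀ * H * P) k l = Bb (b (Sum.inl k.swap)) (b (Sum.inl l.swap)) := by
      rw [Matrix.toBilin'_apply', Matrix.mul_assoc, Matrix.mul_apply']
      rfl
    rw [e]
    rcases k with k | k <;> rcases l with l | l <;>
      simp only [Sum.swap_inl, Sum.swap_inr, Matrix.J, fromBlocks_apply₁₁, fromBlocks_apply₁₂, fromBlocks_apply₂₁,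
        fromBlocks_apply₂₂, Matrix.zero_apply, Matrix.neg_apply, Matrix.one_apply]
    · exact congrArg Subtype.val (hb3 k l)
    · rw [← LinearMap.IsAlt.neg hAlt, hb1]
      simp [eq_comm]
    · exact congrArg Subtype.val (hb1 k l)
    · exact congrArg Subtype.val (hb2 k l)
  have hPF : (P.map ι)ᵀ * (ν⁻¹ • (Aᵀ * Matrix.J (Fin m) F * A)) * P.map ι = Matrix.J (Fin m) F := by
    rw [← hH, ← transpose_map, ← Matrix.map_mul, ← Matrix.map_mul, hP]
    ext k l
    rcases k with k | k <;> rcases l with l | l <;> simp [Matrix.J, Matrix.one_apply, apply_ite ι]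
  have hJdet : (Matrix.J (Fin m) F).det ≠ 0 := (Matrix.isUnit_det_J (Fin m) F).ne_zero
  have hPdet : (P.map ι).det ≠ 0 := fun h0 => hJdet (by rw [← hPF, det_mul, h0, mul_zero])
  let pG : GLn := GeneralLinearGroup.mkOfDetNeZero (P.map ι) hPdet
  have hpσ : GeneralLinearGroup.map σ.toRingHom pG = pG :=
    Units.ext (Matrix.ext fun k l => (P k l).2)
  have hk0 : a * pG ∈ Cfsg.GSp m F := by
    refine ⟨Units.mk0 ν hij, fun u v => ?_⟩
    show sf ((A * P.map ι) *ᵥ u) ((A * P.map ι) *ᵥ v) = _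
    rw [sympForm_mulVec, transpose_mul, show (P.map ι)ᵀ * Aᵀ * Matrix.J (Fin m) F * (A * P.map ι) =
        ν • ((P.map ι)ᵀ * (ν⁻¹ • (Aᵀ * Matrix.J (Fin m) F * A)) * P.map ι) by
      rw [Matrix.mul_smul, Matrix.smul_mul, smul_smul, mul_inv_cancel₀ hij, one_smul]
      simp only [Matrix.mul_assoc], hPF, smul_mulVec, dotProduct_smul, smul_eq_mul, Units.val_mk0]
    rfl
  refine ⟨⟨a * pG, hk0⟩, d, ?_⟩
  have h5 : g' = (⟨a * pG, hk0⟩ : GSpn) * (fieldGSp σ ⟨a * pG, hk0⟩)⁻¹ := Subtype.ext (by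
    show (g' : GLn) = a * pG * (GeneralLinearGroup.map σ.toRingHom (a * pG))⁻¹
    rw [hga, map_mul, hpσ]
    group)
  rw [← h5, hg', ← mul_assoc, ← map_mul, mul_inv_cancel, map_one, one_mul]

include hσ in
/-- Elements of order `r` in the coset of a field automorphism are conjugate to it. -/
lemma conj_of_orderOf_fieldPSp (hm : 2 ≤ m) (g : GSpn) (e : orderOf (conjPSp g * fieldPSp σ : MulAut PSpn) = r) :
    Cfsg.IsConjUnder (conjPSp : GSpn →* MulAut PSpn).range (fieldPSp σ) (conjPSp g * fieldPSp σ) := by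
  have h1 := pow_orderOf_eq_one (conjPSp g * fieldPSp σ : MulAut PSpn)
  rw [e, conj_field_pow, ← hσ, pow_orderOf_eq_one, map_one, mul_one, hσ] at h1
  obtain ⟨c, hc⟩ := exists_scalarGSp hm h1
  obtain ⟨k, d, rfl⟩ := exists_gsp_coboundary hσ hm hc
  refine ⟨conjPSp k, ⟨k, rfl⟩, ?_⟩
  rw [map_mul, conjPSp_scalarGSp, one_mul, map_mul, mul_assoc, map_inv, mul_assoc]
  congr 1
  rw [← map_inv conjPSp k, fieldPSp_mul_conjPSp, map_inv (fieldGSp σ), map_inv conjPSp]

/-- A field automorphism of prime order is conjugate to a standard one under `Inndiag`. -/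
lemma exists_standard_fieldPSp (hm : 2 ≤ m) {x : MulAut PSpn} (hx : Cfsg.IsFieldAutClassPSp x) {r : ℕ}
    (hr : r.Prime) (hxr : orderOf x = r) :
    ∃ (σ : F ≃+* F) (g : GSpn), orderOf σ = r ∧ x = conjPSp g * fieldPSp σ * (conjPSp g)⁻¹ := by
  obtain ⟨p, hchar⟩ := CharP.exists F
  haveI : Fact p.Prime := ⟨CharP.char_is_prime F p⟩
  obtain ⟨α, τ, hτ, e⟩ := hx
  rw [isStdFieldAutPSp_iff] at e
  have hcl : ∃ (g : GLn) (σ : F ≃+* F), g ∈ Cfsg.GSp m F ∧ Cfsg.IsInducedBySemilinearPSp g σ x := by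
    rcases eq_or_ne p 2 with rfl | hp
    · refine classification_of_preserves hm (preserves_of_conj_field hm e) (preserves_of_conj_field hm (α := α) (τ := τ⁻¹) ?_)
      rw [map_inv, ← e]; group
    · exact aut_classification hm (fun _ => hp) x
  obtain ⟨g, σ, hg, hind⟩ := hcl
  have hxe : x = conjPSp ⟨g, hg⟩ * fieldPSp σ := eq_of_isInduced (g := ⟨g, hg⟩) hind
  have hpow : σ ^ r = 1 := by
    have h1 := pow_orderOf_eq_one x
    rw [hxr, hxe, conj_field_pow] at h1
    exact (eq_one_of_conj_field_eq_one hm h1).1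
  have hne : σ ≠ 1 := by
    rintro rfl
    haveI := normal_range_conjPSp (F := F) (m := m) hm (p := p)
    rw [map_one, mul_one] at hxe
    obtain ⟨k, hk⟩ : fieldPSp τ ∈ (conjPSp : GSpn →* MulAut PSpn).range := by
      rw [← e]; exact Subgroup.Normal.conj_mem ‹_› x (hxe ▸ ⟨_, rfl⟩) α
    exact hτ (conj_field_injective hm (g := 1) (g' := k) (τ' := 1) (by rw [map_one, one_mul, map_one, mul_one, hk]))
  haveI : Fact r.Prime := ⟨hr⟩
  have hσ : orderOf σ = r := orderOf_eq_prime hpow hne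
  obtain ⟨_, ⟨k, rfl⟩, hk⟩ := conj_of_orderOf_fieldPSp hσ hm ⟨g, hg⟩ (hxe ▸ hxr)
  exact ⟨σ, k, hσ, hxe.trans hk⟩

lemma mat_fieldGSp_subfield {g : GSpn} (h : fieldGSp σ g = g) (i j : Fin m ⊕ Fin m) : σ (mat g i j) = mat g i j :=
  congrArg (fun u : GSpn => mat u i j) h

include hσ in
/-- The stabiliser of a field automorphism in `GSp`. -/
lemma mem_stab_fieldPSp (hm : 2 ≤ m) (g : GSpn) :
    g ∈ (Subgroup.centralizer {(fieldPSp σ : MulAut PSpn)}).comap conjPSp ↔
      ∃ y : Fˣ, fieldGSp σ (scalarGSp y * g) = scalarGSp y * g := by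
  have hsc : ∀ (τ : F ≃+* F) (c : Fˣ), fieldGSp τ (scalarGSp c : GSpn) = scalarGSp (Units.map τ.toRingHom.toMonoidHom c) :=
    fun τ c => mat_injective (by
      rw [mat_fieldGSp, mat_scalarGSp, mat_scalarGSp]
      ext i j
      rcases eq_or_ne i j with rfl | h <;> simp [*])
  rw [Subgroup.mem_comap, Subgroup.mem_centralizer_singleton_iff, fieldPSp_mul_conjPSp, mul_left_inj]
  constructor
  · intro e
    obtain ⟨c, hc⟩ := exists_scalarGSp hm (g := fieldGSp σ g * g⁻¹) (by rw [map_mul, ← e, map_inv, mul_inv_cancel])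
    have hcs : fieldGSp σ g = scalarGSp c * g := mul_inv_eq_iff_eq_mul.1 hc
    have key : ∀ k, fieldGSp (σ ^ k) g = scalarGSp (normHom σ k c) * g := by
      intro k
      induction k with
      | zero => rw [pow_zero, show normHom σ 0 c = 1 from rfl, map_one, one_mul]; exact mat_injective (Matrix.ext fun _ _ => rfl)
      | succ k ih =>
        rw [show fieldGSp (σ ^ (k + 1)) g = fieldGSp σ (fieldGSp (σ ^ k) g) from by
          rw [pow_succ']; exact mat_injective (Matrix.ext fun _ _ => rfl), ih, map_mul, hsc, hcs, ← mul_assoc,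
          ← map_mul, mul_comm]
        rfl
    have hker : normHom σ r c = 1 := by
      have h1 := key r
      rw [← hσ, pow_orderOf_eq_one, show fieldGSp (1 : F ≃+* F) g = g from mat_injective (Matrix.ext fun _ _ => rfl), hσ] at h1
      have h2 := congrArg (fun u : GSpn => mat u (Sum.inl ⟨0, by omega⟩) (Sum.inl ⟨0, by omega⟩))
        (mul_right_cancel (h1.symm.trans (one_mul g).symm) : scalarGSp (normHom σ r c) = 1)
      simp only [mat_scalarGSp] at h2
      rw [show mat (1 : GSpn) = 1 from rfl] at h2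
      exact Units.ext (by simpa using h2)
    obtain ⟨y, hy⟩ := CfsgLib.PSLAut.normHom_ker hσ (MonoidHom.mem_ker.2 hker)
    refine ⟨y, ?_⟩
    rw [map_mul, hsc, hcs, ← mul_assoc, ← map_mul]
    congr 2
    rw [← hy, CfsgLib.PSLAut.nuHom_apply, mul_div_cancel]
  · rintro ⟨y, hy⟩
    have := congrArg (conjPSp : GSpn →* MulAut PSpn) hy
    rw [map_mul (fieldGSp σ), hsc, map_mul, map_mul, conjPSp_scalarGSp, conjPSp_scalarGSp, one_mul, one_mul] at this
    exact this.symm

include hσ in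
/-- The centraliser of a field automorphism is `PGSp` over the fixed field. -/
lemma centralizer_fieldPSp_equiv (hm : 2 ≤ m) (K₀ : Type*) [Field K₀] (e : fixedField σ ≃+* K₀) :
    Nonempty (↥((conjPSp : GSpn →* MulAut PSpn).range ⊓ Subgroup.centralizer {(fieldPSp σ : MulAut PSpn)}) ≃*
      Cfsg.PGSp m K₀) := by
  let ι : K₀ →+* F := (fixedField σ).subtype.comp e.symm.toRingHom
  have hJ : ∀ u v : Fin m ⊕ Fin m → K₀, sf (ι ∘ u) (ι ∘ v) = ι (Cfsg.sympForm m K₀ u v) := fun u v => by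
    simp [sympForm_eq, map_sum, map_sub, map_mul]
  let S : GL (Fin m ⊕ Fin m) K₀ →* GLn := GeneralLinearGroup.map ι
  have hS : ∀ (u : GL (Fin m ⊕ Fin m) K₀) (w : Fin m ⊕ Fin m → K₀),
      ((S u : GLn) : Mn) *ᵥ (ι ∘ w) = ι ∘ ((u : Matrix (Fin m ⊕ Fin m) (Fin m ⊕ Fin m) K₀) *ᵥ w) := fun u w =>
    funext fun i => (RingHom.map_mulVec ι (u : Matrix (Fin m ⊕ Fin m) (Fin m ⊕ Fin m) K₀) w i).symm
  have hsingle : ∀ k : Fin m ⊕ Fin m, ι ∘ (Pi.single k (1 : K₀) : Fin m ⊕ Fin m → K₀) = Pi.single k 1 := fun k => by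
    funext l; rcases eq_or_ne l k with rfl | hl <;> simp [*]
  have hbasis : ∀ (M : Mn) (c : F), (∀ i j, sf (M *ᵥ Pi.single i 1) (M *ᵥ Pi.single j 1) = c * sf (Pi.single i 1) (Pi.single j 1)) →
      ∀ u v, sf (M *ᵥ u) (M *ᵥ v) = c * sf u v := by
    intro M c hM
    have h1 : Mᵀ * Matrix.J (Fin m) F * M = c • Matrix.J (Fin m) F := by
      ext i j
      have := hM i j
      rw [sympForm_mulVec] at this
      simpa [Cfsg.sympForm] using this
    intro u v
    rw [sympForm_mulVec, h1, smul_mulVec, dotProduct_smul, smul_eq_mul]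
    rfl
  let S' : Cfsg.GSp m K₀ →* GSpn := (S.comp (Cfsg.GSp m K₀).subtype).codRestrict _ fun u => by
    obtain ⟨c, hc⟩ := u.2
    refine ⟨Units.map ι.toMonoidHom c, hbasis _ _ fun i j => ?_⟩
    show sf (((S (u : GL (Fin m ⊕ Fin m) K₀) : GLn) : Mn) *ᵥ _) (((S (u : GL (Fin m ⊕ Fin m) K₀) : GLn) : Mn) *ᵥ _) = _
    rw [← hsingle i, ← hsingle j, hS, hS, hJ, hc, map_mul, hJ]
    rfl
  have hfix : ∀ u, fieldGSp σ (S' u) = S' u := fun u => mat_injective (Matrix.ext fun i j =>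
    (e.symm (((u : GL (Fin m ⊕ Fin m) K₀) : Matrix (Fin m ⊕ Fin m) (Fin m ⊕ Fin m) K₀) i j)).2)
  have hmem : ∀ u : Cfsg.GSp m K₀, (conjPSp (S' u) : MulAut PSpn) ∈
      (conjPSp : GSpn →* MulAut PSpn).range ⊓ Subgroup.centralizer {(fieldPSp σ : MulAut PSpn)} := fun u =>
    ⟨⟨_, rfl⟩, Subgroup.mem_comap.1 ((mem_stab_fieldPSp hσ hm _).2 ⟨1, by rw [map_one, one_mul, hfix]⟩)⟩
  let Φ := ((conjPSp : GSpn →* MulAut PSpn).comp S').codRestrict _ hmem
  have hs : Function.Surjective Φ := by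
    rintro ⟨β, ⟨g, rfl⟩, hc⟩
    obtain ⟨y, hy⟩ := (mem_stab_fieldPSp hσ hm g).1 (Subgroup.mem_comap.2 hc)
    set h := scalarGSp y * g with hh
    let M₀ : Matrix (Fin m ⊕ Fin m) (Fin m ⊕ Fin m) K₀ :=
      Matrix.of fun i j => e ⟨mat h i j, mat_fieldGSp_subfield hy i j⟩
    have hM : M₀.map ι = mat h := by ext i j; simp [M₀, ι]
    have hdet : M₀.det ≠ 0 := fun h0 => by
      have h1 : (mat h).det = 0 := by rw [← hM, show M₀.map ι = ι.mapMatrix M₀ from rfl, ← RingHom.map_det, h0, map_zero]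
      exact GeneralLinearGroup.det_ne_zero (h : GLn) h1
    let u₀ := GeneralLinearGroup.mkOfDetNeZero M₀ hdet
    have hu : u₀ ∈ Cfsg.GSp m K₀ := by
      set x₀ : Fin m ⊕ Fin m → K₀ := Pi.single (Sum.inr ⟨0, by omega⟩) 1
      set y₀ : Fin m ⊕ Fin m → K₀ := Pi.single (Sum.inl ⟨0, by omega⟩) 1
      have h1 : Cfsg.sympForm m K₀ x₀ y₀ = 1 := by simp [x₀, y₀, sympForm_single_inl]
      set c₀ := Cfsg.sympForm m K₀ (M₀ *ᵥ x₀) (M₀ *ᵥ y₀) with hc₀
      have key : ∀ u v, ι (Cfsg.sympForm m K₀ (M₀ *ᵥ u) (M₀ *ᵥ v)) = (multFun h : F) * ι (Cfsg.sympForm m K₀ u v) :=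
        fun u v => by
          rw [← hJ, ← hJ, ← multFun_spec, ← hM]
          congr 1 <;> exact funext fun i => RingHom.map_mulVec ι M₀ _ i
      have hc : ι c₀ = (multFun h : F) := by rw [hc₀, key, h1, map_one, mul_one]
      refine ⟨Units.mk0 c₀ fun h0 => (multFun h).ne_zero (by rw [← hc, h0, map_zero]), fun u v => ι.injective ?_⟩
      rw [map_mul, Units.val_mk0, hc]
      exact key u v
    refine ⟨⟨u₀, hu⟩, Subtype.ext ?_⟩
    show conjPSp (S' ⟨u₀, hu⟩) = conjPSp g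
    rw [show S' ⟨u₀, hu⟩ = h from mat_injective hM, hh, map_mul, conjPSp_scalarGSp, one_mul]
  have hscal : ∀ a : K₀, (a • (1 : Matrix (Fin m ⊕ Fin m) (Fin m ⊕ Fin m) K₀)).map ι = ι a • 1 := fun a => by
    ext i j
    rcases eq_or_ne i j with rfl | hij <;> simp [*]
  have hk : Φ.ker = (Cfsg.Geo.scalars (Fin m ⊕ Fin m) K₀).subgroupOf (Cfsg.GSp m K₀) := by
    ext u
    rw [Subgroup.mem_subgroupOf, Cfsg.Geo.mem_scalars_iff, MonoidHom.mem_ker, Subtype.ext_iff]
    show conjPSp (S' u) = 1 ↔ _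
    rw [conjPSp_eq_one_iff hm]
    let z : Fin m ⊕ Fin m := Sum.inl ⟨0, by omega⟩
    constructor
    · rintro ⟨c, hc⟩
      set d := ((u : GL (Fin m ⊕ Fin m) K₀) : Matrix (Fin m ⊕ Fin m) (Fin m ⊕ Fin m) K₀) z z with hd
      have hd' : ι d = c := by
        have h1 := congrFun (congrFun hc z) z
        rw [Matrix.smul_apply, Matrix.one_apply_eq, smul_eq_mul, mul_one] at h1
        exact h1
      have hM : ((u : GL (Fin m ⊕ Fin m) K₀) : Matrix (Fin m ⊕ Fin m) (Fin m ⊕ Fin m) K₀) = d • 1 := by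
        refine Matrix.map_injective ι.injective (show _ = _ from ?_)
        show mat (S' u) = (d • (1 : Matrix (Fin m ⊕ Fin m) (Fin m ⊕ Fin m) K₀)).map ι
        rw [hscal, hd', hc]
      have hd0 : d ≠ 0 := fun e' => by
        haveI : Nonempty (Fin m ⊕ Fin m) := ⟨z⟩
        exact (u : GL (Fin m ⊕ Fin m) K₀).ne_zero (by rw [hM, e', zero_smul])
      exact ⟨Units.mk0 d hd0, hM⟩
    · rintro ⟨d, hd⟩
      refine ⟨ι d, ?_⟩
      show ((u : GL (Fin m ⊕ Fin m) K₀) : Matrix (Fin m ⊕ Fin m) (Fin m ⊕ Fin m) K₀).map ι = _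
      rw [hd, hscal]
  exact ⟨((QuotientGroup.quotientMulEquivOfEq hk.symm).trans (QuotientGroup.quotientKerEquivOfSurjective Φ hs)).symm⟩

include hσ in
/-- Class splitting of a field automorphism. -/
lemma splitClassCount_fieldPSp (hm : 2 ≤ m) :
    Cfsg.splitClassCount (conjPSp : GSpn →* MulAut PSpn).range (Cfsg.Inn PSpn) (fieldPSp σ) =
      Nat.gcd ((Fintype.card F - 1) / (Nat.card (fixedField σ) - 1)) 2 := by
  have h1m : 1 ≤ m := by omega
  let μ : GSpn →* Fˣ := MonoidHom.mk' multFun fun a b => Units.ext (multFun_unique h1m (a * b) (fun u v => by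
    rw [mat_mul, ← mulVec_mulVec, ← mulVec_mulVec, multFun_spec, multFun_spec, Units.val_mul, mul_assoc]))
  have hdiag : ∀ c : Fˣ, ∃ g : GSpn, multFun g = c ∧ mat g = diagonal (Sum.elim (fun _ => 1) fun _ => (c : F)) := by
    intro c
    have hne : (diagonal (Sum.elim (fun _ : Fin m => (1 : F)) fun _ : Fin m => (c : F))).det ≠ 0 := by
      rw [det_diagonal, Finset.prod_ne_zero_iff]
      rintro (i | i) - <;> simp
    have hform : ∀ u v : V, sf (diagonal (Sum.elim (fun _ : Fin m => (1 : F)) fun _ : Fin m => (c : F)) *ᵥ u)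
        (diagonal (Sum.elim (fun _ : Fin m => (1 : F)) fun _ : Fin m => (c : F)) *ᵥ v) = (c : F) * sf u v := by
      intro u v
      simp only [sympForm_eq, mulVec_diagonal, Sum.elim_inl, Sum.elim_inr, Finset.mul_sum]
      exact Finset.sum_congr rfl fun i _ => by ring
    exact ⟨⟨GeneralLinearGroup.mkOfDetNeZero _ hne, c, hform⟩, Units.ext (multFun_unique h1m _ hform), rfl⟩
  have hμs : Function.Surjective μ := fun c => ⟨(hdiag c).choose, (hdiag c).choose_spec.1⟩
  have hinn : Cfsg.Inn PSpn = μ.ker.map conjPSp := by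
    ext β
    constructor
    · rintro ⟨x, rfl⟩
      induction x using QuotientGroup.induction_on with | _ s =>
        exact ⟨toGSp s, MonoidHom.mem_ker.2 (Units.ext (multFun_unique h1m _ fun u v => by
          rw [mat_toGSp, sp_form, Units.val_one, one_mul])), conjPSp_toGSp s⟩
    · rintro ⟨g, hg, rfl⟩
      have hg' : multFun g = 1 := MonoidHom.mem_ker.1 hg
      refine ⟨pspMk ⟨mat g, mem_sp_iff.2 fun u v => by rw [multFun_spec, hg', Units.val_one, one_mul]⟩, ?_⟩
      rw [← conjPSp_toGSp]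
      exact congrArg conjPSp (mat_injective rfl)
  rw [hinn, CfsgLib.PSLAut.splitClassCount_eq_index]
  have key : ∀ S : Subgroup GSpn, (S ⊔ μ.ker).index = (S.map μ).index := fun S => by
    rw [Subgroup.index_map, MonoidHom.range_eq_top.2 hμs, Subgroup.index_top, mul_one]
  rw [key]
  have hsc : ∀ y : Fˣ, μ (scalarGSp y) = y ^ 2 := fun y => Units.ext (multFun_unique h1m _ fun u v => by
    rw [mat_scalarGSp, smul_mulVec, one_mulVec, smul_mulVec, one_mulVec, sympForm_smul_left, sympForm_smul_right,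
      Units.val_pow_eq_pow_val, sq, mul_assoc])
  have hS : ((Subgroup.centralizer {(fieldPSp σ : MulAut PSpn)}).comap conjPSp).map μ =
      (powMonoidHom 2 : Fˣ →* Fˣ).range ⊔ fixedUnits σ := by
    apply le_antisymm
    · rintro _ ⟨g, hg, rfl⟩
      obtain ⟨y, hy⟩ := (mem_stab_fieldPSp hσ hm g).1 hg
      have hd : μ (scalarGSp y * g) ∈ fixedUnits σ := by
        set h := scalarGSp y * g with hh
        obtain ⟨w, hw⟩ := exists_partner (m := m) (F := F) (u := Pi.single (Sum.inl ⟨0, h1m⟩) 1) (by simp)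
        show σ (multFun h : F) = multFun h
        have hfσ : ∀ z : V, mat h *ᵥ (σ ∘ z) = σ ∘ (mat h *ᵥ z) := fun z => by
          rw [← map_mulVec_comp', ← mat_fieldGSp, hy]
        have h1 := multFun_spec h (σ ∘ w) (σ ∘ (Pi.single (Sum.inl ⟨0, h1m⟩) 1 : V))
        rw [hfσ, hfσ, sympForm_comp, sympForm_comp, multFun_spec, hw, map_one, mul_one] at h1
        exact h1
      rw [show μ g = (y⁻¹) ^ 2 * μ (scalarGSp y * g) by rw [map_mul, hsc, inv_pow, inv_mul_cancel_left]]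
      exact Subgroup.mul_mem_sup ⟨y⁻¹, rfl⟩ hd
    · refine sup_le ?_ ?_
      · rintro _ ⟨y, rfl⟩
        exact ⟨scalarGSp y, (mem_stab_fieldPSp hσ hm _).2 ⟨y⁻¹, by
          rw [← map_mul, inv_mul_cancel, map_one, map_one]⟩, hsc y⟩
      · intro a ha
        obtain ⟨g, hg, hgm⟩ := hdiag a
        refine ⟨g, (mem_stab_fieldPSp hσ hm _).2 ⟨1, ?_⟩, hg⟩
        rw [map_one, one_mul]
        refine mat_injective ?_
        rw [mat_fieldGSp, hgm, diagonal_map (map_zero σ)]
        congr 1; funext i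
        rcases i with i | i
        · simp
        · simpa using (show σ (a : F) = a from ha)
  rw [hS, CfsgLib.PSUAut.index_powers_sup]
  congr 1
  have h1 := Subgroup.index_mul_card (fixedUnits σ)
  rw [Nat.card_units, CfsgLib.PSLAut.card_fixedUnits, Nat.card_eq_fintype_card (α := F)] at h1
  have hpos : 0 < Nat.card (fixedField σ) - 1 := by
    have := CfsgLib.PSLAut.card_fixedUnits σ
    have : 0 < Nat.card (fixedUnits σ) := Nat.card_pos
    omega
  rw [← h1, Nat.mul_div_cancel _ hpos]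

end Fin

end CfsgLib.PSpAut
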