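/-
Automorphisms of PSp_4 in characteristic two: the images of transvections, and squares preserving transvections.
-/
import Cfsg.Agent.Lib.KnownSimple.PSpAut.FieldClass

set_option autoImplicit false

namespace CfsgLib.PSpAut

open Matrix CfsgLib.Classical

variable {F : Type*} [Field F] [Fintype F] {m : ℕ}

local notation "V" => Fin m ⊕ Fin m → F
local notation "sf" => Cfsg.sympForm m F
local notation "Spn" => Matrix.symplecticGroup (Fin m) F
local notation "PSpn" => Cfsg.PSp m F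

/-- A short root element with line spanned by `x`, `a`. -/
def IsShortEl (z : Spn) : Prop :=
  ∃ x a : V, x ≠ 0 ∧ LinearIndependent F ![x, a] ∧ sf x a = 0 ∧ ∀ y, z.1 *ᵥ y = y + sf y x • a + sf a y • x

omit [Fintype F] in
lemma conj_line_formula (g z : Spn) {x a : V} {k : F}
    (hz : ∀ y, z.1 *ᵥ y = y + sf y x • a + sf a y • x + (k * sf y x) • x) (y : V) :
    (g * z * g⁻¹).1 *ᵥ y = y + sf y (g.1 *ᵥ x) • (g.1 *ᵥ a) + sf (g.1 *ᵥ a) y • (g.1 *ᵥ x) +
      (k * sf y (g.1 *ᵥ x)) • (g.1 *ᵥ x) := by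
  have h1 : sf (g⁻¹.1 *ᵥ y) x = sf y (g.1 *ᵥ x) := by rw [← sp_form g, sp_mulVec_inv]
  have h2 : sf a (g⁻¹.1 *ᵥ y) = sf (g.1 *ᵥ a) y := by rw [← sp_form g, sp_mulVec_inv]
  rw [Submonoid.coe_mul, Submonoid.coe_mul, ← mulVec_mulVec, ← mulVec_mulVec, hz, h1, h2, mulVec_add, mulVec_add,
    mulVec_add, mulVec_smul, mulVec_smul, mulVec_smul, sp_mulVec_inv]

lemma isConj_of_short {z z' : Spn} (hz : IsShortEl z) (hz' : IsShortEl z') : IsConj z z' := by
  obtain ⟨x, a, hx, hli, hxa, h⟩ := hz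
  obtain ⟨x', a', hx', hli', hxa', h'⟩ := hz'
  have hv : a' ∉ Submodule.span F {x'} := fun hm => by
    obtain ⟨c, hc⟩ := Submodule.mem_span_singleton.1 hm
    exact (LinearIndependent.pair_iff' hx').1 hli' c hc
  obtain ⟨g, hgx, hga⟩ := exists_move_pair hli hxa hx' hxa' hv
  refine isConj_iff.2 ⟨g, sp_ext fun y => ?_⟩
  rw [conj_line_formula g z (k := 0) (fun y => by rw [h, zero_mul, zero_smul, add_zero]) y, hgx, hga, h', zero_mul,
    zero_smul, add_zero]

/-- An element moving a line with nonzero quadratic part has more conjugates than a transvection. -/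
lemma card_conjugates_mixed [CharP F 2] {z : Spn} {x a : V}
    (hli : LinearIndependent F ![x, a]) (hxa : sf x a = 0) {k : F} (hk : k ≠ 0)
    (hz : ∀ y, z.1 *ᵥ y = y + sf y x • a + sf a y • x + (k * sf y x) • x) :
    Nat.card V - 1 < Nat.card {y : Spn // IsConj z y} := by
  classical
  have hx : x ≠ 0 := by simpa using hli.ne_zero 0
  have hdet : ∀ {u u' b b' : V}, (∀ y : V, y + sf y u • b + sf b y • u + (k * sf y u) • u =
      y + sf y u' • b' + sf b' y • u' + (k * sf y u') • u') → u = u' := by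
    intro u u' b b' h
    have h1 : ∀ y, sf y u = sf y u' := fun y => by
      have h2 := congrArg (sf y) (h y)
      simp only [sympForm_add_right, sympForm_smul_right, sympForm_self] at h2
      rw [sympForm_swap y b, sympForm_swap y b'] at h2
      have h3 : k * (sf y u) ^ 2 = k * (sf y u') ^ 2 := by linear_combination h2
      exact (frobenius_inj F 2) (by simpa [frobenius_def] using mul_left_cancel₀ hk h3)
    by_contra hne
    obtain ⟨y, hy⟩ := exists_partner (sub_ne_zero.2 hne)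
    rw [sympForm_sub_right, h1, sub_self] at hy
    exact zero_ne_one hy
  choose g hg using fun u : {v : V // v ≠ 0} => (exists_sp_move hx u.2).imp fun _ h => h.2
  obtain ⟨b₀, hb₀, hb₁⟩ : ∃ b, sf x b = 0 ∧ b ∉ Submodule.span F {x, a} := by
    obtain ⟨w, hw, haw⟩ : ∃ w, sf w x = 0 ∧ sf w a ≠ 0 := by
      by_contra hc
      push Not at hc
      obtain ⟨c, hc'⟩ := Submodule.mem_span_singleton.1 (mem_span_of_perp hc)
      exact (LinearIndependent.pair_iff' hx).1 hli c hc'
    refine ⟨w, sympForm_comm_zero.1 hw, fun hmem => haw ?_⟩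
    obtain ⟨c, d, rfl⟩ := Submodule.mem_span_pair.1 hmem
    rw [sympForm_add_left, sympForm_smul_left, sympForm_smul_left, hxa, sympForm_self, mul_zero, mul_zero, add_zero]
  have hv : b₀ ∉ Submodule.span F {x} := fun hm => hb₁ (Submodule.span_mono (by simp) hm)
  obtain ⟨g', hg'x, hg'a⟩ := exists_move_pair hli hxa hx (v := b₀) hb₀ hv
  let Φ : Option {v : V // v ≠ 0} → {y : Spn // IsConj z y} := fun o => match o with
    | some u => if u.1 = x then ⟨z, IsConj.refl z⟩ else ⟨g u * z * (g u)⁻¹, isConj_iff.2 ⟨_, rfl⟩⟩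
    | none => ⟨g' * z * g'⁻¹, isConj_iff.2 ⟨_, rfl⟩⟩
  let ctr : Option {v : V // v ≠ 0} → V := fun o => match o with | some u => u.1 | none => x
  have hform : ∀ o, ∃ b, ∀ y, (Φ o).1.1 *ᵥ y = y + sf y (ctr o) • b + sf b y • ctr o + (k * sf y (ctr o)) • ctr o := by
    rintro (_ | u)
    · exact ⟨g'.1 *ᵥ a, fun y => by
        show (g' * z * g'⁻¹).1 *ᵥ y = _
        rw [conj_line_formula g' z hz y, hg'x]⟩
    · by_cases hu : u.1 = x
      · exact ⟨a, fun y => by simp only [Φ, ctr, if_pos hu, hz, hu]⟩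
      · exact ⟨(g u).1 *ᵥ a, fun y => by simp only [Φ, ctr, if_neg hu]; rw [conj_line_formula (g u) z hz y, hg u]⟩
  have hinj : Function.Injective Φ := by
    intro o o' e
    obtain ⟨b, hb⟩ := hform o
    obtain ⟨b', hb'⟩ := hform o'
    have hc : ctr o = ctr o' := hdet fun y => by rw [← hb, ← hb', e]
    have hne : ∀ u : {v : V // v ≠ 0}, u.1 = x → Φ none ≠ Φ (some u) := by
      intro u hu e'
      obtain ⟨y, hy⟩ := exists_partner hx
      have h2 := congrArg (fun w : {w : Spn // IsConj z w} => w.1.1 *ᵥ y) e'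
      simp only [Φ, if_pos hu, conj_line_formula g' z hz y, hg'x, hg'a, hz, hy] at h2
      exact hb₁ (Submodule.mem_span_pair.2 ⟨sf a y - sf b₀ y, 1, by linear_combination (norm := module) -h2⟩)
    rcases o with _ | u <;> rcases o' with _ | u'
    · rfl
    · exact absurd e (hne u' hc.symm)
    · exact absurd e.symm (hne u hc)
    · exact congrArg some (Subtype.ext hc)
  have h1 := Nat.card_le_card_of_injective Φ hinj
  rw [Finite.card_option, Nat.card_eq_fintype_card (α := {v : V // v ≠ 0}), Fintype.card_subtype_compl,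
    Fintype.card_subtype_eq, ← Nat.card_eq_fintype_card] at h1
  omega

omit [Fintype F] in
lemma pspMk_injective_of_char_two [CharP F 2] : Function.Injective (pspMk : Spn → PSpn) := by
  intro g g' e
  obtain ⟨w, hw, hgw⟩ := (QuotientGroup.mk'_eq_mk' _).1 e
  rcases (mem_center_sp_iff w).1 hw with rfl | rfl
  · rw [← hgw, mul_one]
  · rw [← hgw, show (spNegOne : Spn) = 1 from sp_ext fun y => ?_, mul_one]
    rw [spNegOne_apply, Submonoid.coe_one, one_mulVec, ← sub_eq_zero, ← neg_add', ← two_smul F, CharTwo.two_eq_zero,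
      zero_smul, neg_zero]

/-- In characteristic two an automorphism sends a transvection to a transvection or a short root element. -/
lemma image_spT_cases [CharP F 2] (hm : m = 2) (β : MulAut PSpn) {v : V} (hv : v ≠ 0)
    {c : F} (hc : c ≠ 0) :
    ∃ z : Spn, β (pspMk (spT v c)) = pspMk z ∧ ((∃ (w : V) (d : F), w ≠ 0 ∧ d ≠ 0 ∧ z = spT w d) ∨ IsShortEl z) := by
  haveI : Fact (Nat.Prime 2) := ⟨Nat.prime_two⟩
  obtain ⟨x, z, hx, hzx, hzc, hz⟩ := exists_central_image (p := 2) (by omega : 2 ≤ m) β hv c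
  refine ⟨z, hz, ?_⟩
  rcases centralizer_qSp hx hzx hzc with ⟨d, rfl⟩ | ⟨-, a, hli, hxa, -, k, hk⟩
  · refine Or.inl ⟨x, d, hx, fun hd => ?_, rfl⟩
    rw [hd, spT_zero, map_one, map_eq_one_iff β β.injective, ← map_one (pspMk : Spn →* PSpn)] at hz
    obtain ⟨y, hy⟩ := exists_partner hv
    have h1 := congrArg (fun g : Spn => g.1 *ᵥ y) (pspMk_injective_of_char_two hz)
    simp only [spT_apply, hy, mul_one, Submonoid.coe_one, one_mulVec, add_eq_left, smul_eq_zero] at h1
    exact h1.elim hc hv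
  · rcases eq_or_ne k 0 with rfl | hk0
    · exact Or.inr ⟨x, a, hx, hli, hxa, fun y => by rw [hk, zero_mul, zero_smul, add_zero]⟩
    exfalso
    have h1 := card_conjugates_mixed hli hxa hk0 hk
    have h2 := card_conjugates_spT v c hv
    let e : Spn ≃* PSpn := MulEquiv.ofBijective pspMk ⟨pspMk_injective_of_char_two, pspMk_surjective⟩
    have h4 := card_conjugates_equiv ((e.trans β).trans e.symm) (spT v c)
    rw [show ((e.trans β).trans e.symm) (spT v c) = z from (MulEquiv.symm_apply_eq e).2 hz] at h4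
    omega

/-- In characteristic two one transvection determines whether transvections are preserved. -/
lemma preserves_of_one [CharP F 2] (β : MulAut PSpn) {v w : V} {c d : F} (hv : v ≠ 0) (hc : c ≠ 0) (hw : w ≠ 0)
    (hd : d ≠ 0) (e : β (pspMk (spT v c)) = pspMk (spT w d)) : Preserves β := by
  intro v' hv' c' hc'
  obtain ⟨s, hs⟩ := exists_sq (c' / c)
  have hs0 : s ≠ 0 := fun h0 => div_ne_zero hc' hc (by rw [← hs, h0, zero_pow two_ne_zero])
  obtain ⟨g, -, hg⟩ := exists_sp_move hv (smul_ne_zero hs0 hv')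
  have hval : spT v' c' = g * spT v c * g⁻¹ := by
    rw [spT_conj, hg, spT_smul, hs, mul_div_cancel₀ _ hc]
  obtain ⟨h, hh⟩ := pspMk_surjective (β (pspMk g))
  refine ⟨h.1 *ᵥ w, d, fun h0 => hw (sp_mulVec_injective h (show h.1 *ᵥ w = h.1 *ᵥ 0 by rw [h0, mulVec_zero])), hd, ?_⟩
  rw [hval, map_mul, map_mul, map_inv, map_mul, map_mul, map_inv, e, ← hh, ← map_inv, ← map_mul, ← map_mul, spT_conj]

omit [Fintype F] in
lemma conjSp_spT (g : Cfsg.GSp m F) (v : V) (c : F) :
    conjSp g (spT v c) = spT (mat g *ᵥ v) ((multFun g : F)⁻¹ * c) := by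
  refine sp_ext fun y => ?_
  rw [conjSp_coe, ← mulVec_mulVec, ← mulVec_mulVec, spT_apply, spT_apply, mulVec_add, mulVec_smul,
    mulVec_mulVec, mat_mul_inv, one_mulVec]
  congr 2
  have h3 := multFun_spec g (mat g⁻¹ *ᵥ y) v
  rw [mulVec_mulVec, mat_mul_inv, one_mulVec] at h3
  rw [mul_comm (multFun g : F)⁻¹, mul_assoc, h3, inv_mul_cancel_left₀ (multFun g).ne_zero]

/-- A product of two automorphisms moving transvections off their class preserves them. -/
lemma preserves_mul [CharP F 2] (hm : m = 2) {γ δ : MulAut PSpn} (hγ : ¬ Preserves γ) (hδ : ¬ Preserves δ) :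
    Preserves (γ * δ) := by
  set v₀ : V := Pi.single (Sum.inl ⟨0, by omega⟩) 1
  have hv₀ : v₀ ≠ 0 := by simp [v₀]
  have hshort : ∀ (γ : MulAut PSpn), ¬ Preserves γ → ∃ z : Spn, γ (pspMk (spT v₀ 1)) = pspMk z ∧ IsShortEl z := by
    intro γ hγ
    obtain ⟨z, hz, ⟨w, d, hw, hd, rfl⟩ | hs⟩ := image_spT_cases hm γ hv₀ (one_ne_zero (α := F))
    · exact absurd (preserves_of_one γ hv₀ one_ne_zero hw hd hz) hγ
    · exact ⟨z, hz, hs⟩
  have hP' : ¬ Preserves γ⁻¹ := fun h' => by
    obtain ⟨w, d, hw, hd, e⟩ := h' v₀ hv₀ 1 one_ne_zero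
    refine hγ (preserves_of_one γ hw hd hv₀ one_ne_zero ?_)
    rw [← e]; exact γ.apply_symm_apply _
  obtain ⟨z, hz, hs⟩ := hshort δ hδ
  obtain ⟨z', hz', hs'⟩ := hshort γ⁻¹ hP'
  obtain ⟨g, hg⟩ := isConj_iff.1 (isConj_of_short hs' hs)
  obtain ⟨h, hh⟩ := pspMk_surjective (γ (pspMk g))
  refine preserves_of_one _ hv₀ (w := h.1 *ᵥ v₀) one_ne_zero
    (fun h0 => hv₀ (sp_mulVec_injective h (show h.1 *ᵥ v₀ = h.1 *ᵥ 0 by rw [h0, mulVec_zero]))) one_ne_zero ?_
  show γ (δ (pspMk (spT v₀ 1))) = _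
  have hb : γ (pspMk z') = pspMk (spT v₀ 1) := by rw [← hz']; exact γ.apply_symm_apply _
  rw [hz, ← hg, map_mul, map_mul, map_inv, map_mul, map_mul, map_inv, hb, ← hh, ← map_inv, ← map_mul, ← map_mul,
    spT_conj]

/-- The square of every automorphism preserves transvections. -/
lemma preserves_mul_self [CharP F 2] (hm : m = 2) (β : MulAut PSpn) : Preserves (β * β) := by
  by_cases hP : Preserves β
  · intro v hv c hc
    obtain ⟨w, d, hw, hd, e⟩ := hP v hv c hc
    obtain ⟨w', d', hw', hd', e'⟩ := hP w hw d hd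
    exact ⟨w', d', hw', hd', (congrArg β e).trans e'⟩
  · exact preserves_mul hm hP hP

/-- An automorphism of odd order preserves transvections. -/
lemma preserves_of_odd_order [CharP F 2] (hm : m = 2) (β : MulAut PSpn)
    (ho : Odd (orderOf β)) : Preserves β := by
  have hpow : ∀ (γ : MulAut PSpn), Preserves γ → ∀ k : ℕ, Preserves (γ ^ k) := by
    intro γ hγ k
    induction k with
    | zero => exact fun v hv c hc => ⟨v, c, hv, hc, rfl⟩
    | succ k ih =>
      intro v hv c hc
      obtain ⟨w, d, hw, hd, e⟩ := hγ v hv c hc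
      obtain ⟨w', d', hw', hd', e'⟩ := ih w hw d hd
      refine ⟨w', d', hw', hd', ?_⟩
      rw [pow_succ]
      exact (congrArg (γ ^ k) e).trans e'
  obtain ⟨j, hj⟩ := ho
  have h1 := hpow _ (preserves_mul_self hm β) (j + 1)
  have e : β = (β * β) ^ (j + 1) := by
    rw [← sq, ← pow_mul, show 2 * (j + 1) = orderOf β + 1 by omega, pow_succ, pow_orderOf_eq_one, one_mul]
  rw [e]; exact h1

end CfsgLib.PSpAut
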