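/-
Field automorphisms of PSp: the subfield group, and the core of their centralisers.
-/
import Cfsg.Agent.Lib.KnownSimple.PSpAut.Even4
import Cfsg.Agent.Lib.KnownSimple.Balance
import Cfsg.Agent.Lib.KnownSimple.PSLAut.Galois
import Cfsg.Agent.Lib.Classical.SpOrder
import Cfsg.Agent.Lib.Classical.SpSimple

set_option autoImplicit false

namespace CfsgLib.PSpAut

open Matrix CfsgLib.Classical
open CfsgLib.PSLAut (fixedField)
open scoped LinearAlgebra.Projectivization

variable {F : Type*} [Field F] [Fintype F] {m : ℕ}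

local notation "V" => Fin m ⊕ Fin m → F
local notation "sf" => Cfsg.sympForm m F
local notation "Spn" => Matrix.symplecticGroup (Fin m) F
local notation "PSpn" => Cfsg.PSp m F
local notation "GSpn" => Cfsg.GSp m F
local notation "Mn" => Matrix (Fin m ⊕ Fin m) (Fin m ⊕ Fin m) F

omit [Fintype F] in
lemma eq_one_of_conj_eq_one (hm : 2 ≤ m) {k : PSpn} (e : (MulAut.conj k : MulAut PSpn) = 1) : k = 1 := by
  induction k using QuotientGroup.induction_on with | _ s =>
  obtain ⟨c, hc⟩ := (conjPSp_eq_one_iff hm (toGSp s)).1 ((conjPSp_toGSp s).trans e)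
  rw [mat_toGSp] at hc
  exact (QuotientGroup.eq_one_iff s).2 (Subgroup.mem_center_iff.2 fun g => Subtype.ext (by
    rw [Submonoid.coe_mul, Submonoid.coe_mul, hc, Matrix.mul_smul, Matrix.smul_mul, Matrix.mul_one, Matrix.one_mul]))

omit [Fintype F] in
lemma fieldSp_spT (τ : F ≃+* F) (v : V) (c : F) : fieldSp τ (spT v c) = spT (τ ∘ v) (τ c) := by
  refine sp_ext fun y => ?_
  rw [← comp_symm_comp τ y, fieldSp_coe, map_mulVec_comp', spT_apply, spT_apply, sympForm_comp]
  funext i
  simp [map_mul]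

omit [Fintype F] in
lemma comp_single (τ : F ≃+* F) (k : Fin m ⊕ Fin m) : τ ∘ (Pi.single k 1 : V) = Pi.single k 1 :=
  funext fun i => by simp [Pi.single_apply, apply_ite τ]

variable (σ : F ≃+* F)

/-- The symplectic group over the fixed field. -/
noncomputable def subSp : Matrix.symplecticGroup (Fin m) (fixedField σ) →* Spn where
  toFun s := ⟨s.1.map (fixedField σ).subtype, by
    have h : s.1 * Matrix.J (Fin m) (fixedField σ) * s.1ᵀ = Matrix.J (Fin m) (fixedField σ) :=
      SymplecticGroup.mem_iff.1 s.2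
    have hJ : (fixedField σ).subtype.mapMatrix (Matrix.J (Fin m) (fixedField σ)) = Matrix.J (Fin m) F := by
      ext (i | i) (j | j) <;> simp [Matrix.J, Matrix.one_apply] <;> split_ifs <;> simp
    rw [SymplecticGroup.mem_iff, ← hJ]
    conv_rhs => rw [← h]
    rw [map_mul, map_mul]
    rfl⟩
  map_one' := Subtype.ext (Matrix.map_one _ (map_zero _) (map_one _))
  map_mul' a b := Subtype.ext (Matrix.map_mul (f := (fixedField σ).subtype))

omit [Fintype F] in
lemma subSp_coe (s : Matrix.symplecticGroup (Fin m) (fixedField σ)) :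
    (subSp σ s).1 = s.1.map (fixedField σ).subtype := rfl

omit [Fintype F] in
lemma fieldSp_subSp (s : Matrix.symplecticGroup (Fin m) (fixedField σ)) : fieldSp σ (subSp σ s) = subSp σ s :=
  Subtype.ext (Matrix.ext fun i j => (s.1 i j).2)

omit [Fintype F] in
lemma exists_subSp {s : Spn} (h : fieldSp σ s = s) : ∃ t, subSp σ t = s := by
  let M : Matrix (Fin m ⊕ Fin m) (Fin m ⊕ Fin m) (fixedField σ) :=
    Matrix.of fun i j => ⟨s.1 i j, congrArg (fun u : Spn => u.1 i j) h⟩
  have hM : M.map (fixedField σ).subtype = s.1 := rfl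
  refine ⟨⟨M, ?_⟩, Subtype.ext hM⟩
  rw [SymplecticGroup.mem_iff]
  refine Matrix.map_injective (fixedField σ).subtype.injective ?_
  have hJ : (fixedField σ).subtype.mapMatrix (Matrix.J (Fin m) (fixedField σ)) = Matrix.J (Fin m) F := by
    ext (i | i) (j | j) <;> simp [Matrix.J, Matrix.one_apply] <;> split_ifs <;> simp
  show (fixedField σ).subtype.mapMatrix (M * Matrix.J (Fin m) (fixedField σ) * Mᵀ) = (fixedField σ).subtype.mapMatrix _
  rw [map_mul, map_mul, hJ]
  exact SymplecticGroup.mem_iff.1 s.2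

/-- The subfield group as automorphisms. -/
noncomputable def subInn : Matrix.symplecticGroup (Fin m) (fixedField σ) →* MulAut PSpn :=
  MulAut.conj.comp (pspMk.comp (subSp σ))

omit [Fintype F] in
lemma subInn_apply (s : Matrix.symplecticGroup (Fin m) (fixedField σ)) :
    subInn σ s = (MulAut.conj (pspMk (subSp σ s)) : MulAut PSpn) := rfl

omit [Fintype F] in
lemma range_subInn_le :
    (subInn σ : _ →* MulAut PSpn).range ≤ (MulAut.conj : PSpn →* MulAut PSpn).range ⊓ Subgroup.centralizer {fieldPSp σ} := by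
  rintro _ ⟨s, rfl⟩
  refine ⟨⟨_, rfl⟩, Subgroup.mem_centralizer_singleton_iff.2 (MulEquiv.ext fun y => ?_)⟩
  rw [MulAut.mul_apply, MulAut.mul_apply, subInn_apply, MulAut.conj_apply, MulAut.conj_apply, map_mul, map_mul, map_inv,
    fieldPSp_mk, fieldSp_subSp]

omit [Fintype F] in
lemma ker_subInn_le (hm : 2 ≤ m) : (subInn σ : _ →* MulAut PSpn).ker ≤ Subgroup.center _ := by
  intro s hs
  have h1 : subSp σ s ∈ Subgroup.center Spn :=
    (QuotientGroup.eq_one_iff _).1 (eq_one_of_conj_eq_one hm (MonoidHom.mem_ker.1 hs))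
  refine Subgroup.mem_center_iff.2 fun g => Subtype.ext ?_
  refine Matrix.map_injective (fixedField σ).subtype.injective ?_
  have := congrArg Subtype.val (Subgroup.mem_center_iff.1 h1 (subSp σ g))
  rw [Submonoid.coe_mul, Submonoid.coe_mul, subSp_coe, subSp_coe, ← Matrix.map_mul, ← Matrix.map_mul] at this
  exact this

lemma mem_subInn_or_sq {p : ℕ} [Fact p.Prime] (hm : 2 ≤ m) (hσ : orderOf σ = p) {z : MulAut PSpn}
    (hz : z ∈ (MulAut.conj : PSpn →* MulAut PSpn).range ⊓ Subgroup.centralizer {fieldPSp σ}) :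
    z ∈ (subInn σ : _ →* MulAut PSpn).range ∨ (p = 2 ∧ z ^ 2 ∈ (subInn σ : _ →* MulAut PSpn).range) := by
  obtain ⟨⟨k, rfl⟩, hk⟩ := hz
  obtain ⟨s, rfl⟩ := pspMk_surjective k
  have h1 : pspMk (fieldSp σ s) = pspMk s := by
    rw [← fieldPSp_mk]
    refine mul_inv_eq_one.1 (eq_one_of_conj_eq_one hm ?_)
    rw [map_mul, map_inv, mul_inv_eq_one]
    refine mul_right_cancel (b := fieldPSp σ) ?_
    rw [Subgroup.mem_centralizer_singleton_iff.1 hk]
    exact MulEquiv.ext fun y => by simp
  obtain ⟨w, hw, hsw⟩ := (QuotientGroup.mk'_eq_mk' _).1 h1.symm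
  rcases (mem_center_sp_iff w).1 hw with rfl | rfl
  · rw [mul_one] at hsw
    obtain ⟨t, ht⟩ := exists_subSp σ hsw.symm
    exact Or.inl ⟨t, by rw [subInn_apply, ht]⟩
  · have hneg : (spNegOne : Spn) * spNegOne = 1 := sp_ext fun y => by
      rw [Submonoid.coe_mul, ← mulVec_mulVec, spNegOne_apply, spNegOne_apply, neg_neg, Submonoid.coe_one, one_mulVec]
    rcases (Fact.out : p.Prime).eq_two_or_odd' with rfl | hodd
    · obtain ⟨t, ht⟩ := exists_subSp σ (s := s ^ 2) (by
        rw [map_pow, ← hsw, sq, sq, show s * spNegOne * (s * spNegOne) = s * (spNegOne * s) * spNegOne by group,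
          (Subgroup.mem_center_iff.1 hw s).symm, ← mul_assoc, mul_assoc _ _ (spNegOne : Spn), hneg, mul_one])
      exact Or.inr ⟨rfl, t, by rw [subInn_apply, ht, map_pow, map_pow]⟩
    · have hfn : fieldSp σ (spNegOne : Spn) = spNegOne := by
        refine sp_ext fun y => ?_
        rw [← comp_symm_comp σ y, fieldSp_coe, map_mulVec_comp', spNegOne_apply, spNegOne_apply]
        funext i; simp
      have key : ∀ k, fieldSp (σ ^ k) s = s * spNegOne ^ k := by
        intro k
        induction k with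
        | zero => rw [pow_zero, pow_zero, mul_one]; exact Subtype.ext (Matrix.ext fun _ _ => rfl)
        | succ k ih =>
          rw [show fieldSp (σ ^ (k + 1)) s = fieldSp σ (fieldSp (σ ^ k) s) from by
            rw [pow_succ']; exact Subtype.ext (Matrix.ext fun _ _ => rfl), ih, map_mul, map_pow, hfn, ← hsw,
            mul_assoc, ← pow_succ']
      have h2 := key p
      rw [← hσ, pow_orderOf_eq_one, hσ] at h2
      obtain ⟨j, hj⟩ := hodd
      rw [hj, pow_succ, pow_mul, sq, hneg, one_pow, one_mul] at h2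
      have h3 : fieldSp (1 : F ≃+* F) s = s := Subtype.ext (Matrix.ext fun _ _ => rfl)
      rw [h3, hsw] at h2
      obtain ⟨t, ht⟩ := exists_subSp σ h2.symm
      exact Or.inl ⟨t, by rw [subInn_apply, ht]⟩

lemma eq_of_fixes_rational (hm : 2 ≤ m) {n : MulAut PSpn} {g : GSpn} {τ : F ≃+* F} (hn : n = conjPSp g * fieldPSp τ)
    (hfix : ∀ s, n (pspMk (subSp σ s)) = pspMk (subSp σ s)) : τ ∈ Subgroup.zpowers σ ∧ n = fieldPSp τ := by
  -- transvections with rational centre and coefficient
  have hrat : ∀ (v : V) (c : F), (∀ i, σ (v i) = v i) → σ c = c → τ ∘ v = v →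
      pspMk (spT (mat g *ᵥ v) ((multFun g : F)⁻¹ * τ c)) = (pspMk (spT v c) : PSpn) := by
    intro v c hv hc hτv
    obtain ⟨t, ht⟩ := exists_subSp σ (s := spT v c) (by
      rw [fieldSp_spT, hc, show σ ∘ v = v from funext hv])
    have h1 := hfix t
    rw [ht, hn, MulAut.mul_apply, fieldPSp_mk, conjPSp_mk] at h1
    rw [← h1]
    congr 1
    refine sp_ext fun y => ?_
    rw [fieldSp_spT, hτv, conjSp_coe, ← mulVec_mulVec, ← mulVec_mulVec, spT_apply, spT_apply, mulVec_add, mulVec_smul,
      mulVec_mulVec, mat_mul_inv, one_mulVec]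
    congr 2
    have h3 := multFun_spec g (mat g⁻¹ *ᵥ y) v
    rw [mulVec_mulVec, mat_mul_inv, one_mulVec] at h3
    rw [mul_comm (multFun g : F)⁻¹, mul_assoc, h3, inv_mul_cancel_left₀ (multFun g).ne_zero]
  have hline : ∀ v : V, v ≠ 0 → (∀ i, v i = 0 ∨ v i = 1) → ∃ a : F, mat g *ᵥ v = a • v := by
    intro v hv h01
    have h1 := hrat v 1 (fun i => by rcases h01 i with h | h <;> simp [h]) (map_one σ)
      (funext fun i => by rcases h01 i with h | h <;> simp [h])
    have hgv : mat g *ᵥ v ≠ 0 := fun h0 => hv (by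
      have := congrArg (fun w => mat g⁻¹ *ᵥ w) h0
      simpa [mulVec_mulVec, mat_inv_mul] using this)
    obtain ⟨a, ha⟩ := Submodule.mem_span_singleton.1 (pspMk_spT_eq_imp hm hgv
      (mul_ne_zero (inv_ne_zero (multFun g).ne_zero) (by simp)) h1)
    exact ⟨a, ha.symm⟩
  choose a ha using fun k : Fin m ⊕ Fin m => hline (Pi.single k 1) (by simp) fun i => by
    rcases eq_or_ne i k with rfl | h <;> simp [*]
  have hag : ∀ k l, a k = a l := by
    intro k l
    rcases eq_or_ne k l with rfl | hkl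
    · rfl
    obtain ⟨b, hb⟩ := hline (Pi.single k 1 + Pi.single l 1) (fun h0 => by simpa [hkl] using congrFun h0 k) fun i => by
      rcases eq_or_ne i k with rfl | h1
      · simp [hkl]
      rcases eq_or_ne i l with rfl | h2
      · simp [h1]
      · simp [h1, h2]
    rw [mulVec_add, ha, ha] at hb
    have e1 := congrFun hb k
    have e2 := congrFun hb l
    simp [hkl, hkl.symm] at e1 e2
    rw [e1, e2]
  obtain ⟨a₀, ha₀⟩ : ∃ a₀, mat g = a₀ • (1 : Mn) := ⟨a (Sum.inl ⟨0, by omega⟩), Matrix.ext_of_mulVec_single fun k => by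
    rw [ha, smul_mulVec, one_mulVec, hag k (Sum.inl ⟨0, by omega⟩)]⟩
  have hg1 : conjPSp g = (1 : MulAut PSpn) := conjPSp_eq_one_of_scalar ha₀
  rw [hg1, one_mul] at hn
  refine ⟨CfsgLib.PSLAut.mem_zpowers_of_fixes fun c hc => ?_, hn⟩
  set e₀ : V := Pi.single (Sum.inl ⟨0, by omega⟩) 1
  obtain ⟨t, ht⟩ := exists_subSp σ (s := spT e₀ c) (by rw [fieldSp_spT, hc, comp_single])
  have h1 := hfix t
  rw [ht, hn, fieldPSp_mk] at h1
  obtain ⟨y, hy0, hye, -⟩ := exists_perp hm e₀ e₀
  rw [fieldSp_spT, comp_single] at h1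
  have h2 := eq_of_pspMk h1 hy0 (spT_fix hye _) (spT_fix hye _)
  obtain ⟨u, hu⟩ := exists_partner (u := e₀) (by simp [e₀])
  have h3 := congrFun (congrArg (fun z : Spn => z.1 *ᵥ u) h2) (Sum.inl ⟨0, by omega⟩)
  simpa [spT_apply, hu, e₀] using h3

lemma commute_subInn_iff (hm : 2 ≤ m) (n : MulAut PSpn) (s : Matrix.symplecticGroup (Fin m) (fixedField σ))
    (hc : Commute n (subInn σ s)) : n (pspMk (subSp σ s)) = pspMk (subSp σ s) := by
  refine mul_inv_eq_one.1 (eq_one_of_conj_eq_one hm ?_)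
  rw [map_mul, map_inv, mul_inv_eq_one]
  refine mul_right_cancel (b := n) ?_
  rw [← subInn_apply, ← hc.eq]
  exact (MulEquiv.ext fun y => by simp [subInn_apply]).symm

lemma eq_zpow_of_commute (hm : 2 ≤ m) {r : ℕ} [Fact r.Prime] [CharP F r]
    (n : MulAut PSpn) (hR : ∀ z ∈ (subInn σ : _ →* MulAut PSpn).range, Commute n z) :
    n ∈ Subgroup.zpowers (fieldPSp σ : MulAut PSpn) := by
  have hfix : ∀ s, n (pspMk (subSp σ s)) = pspMk (subSp σ s) := fun s => commute_subInn_iff σ hm n s (hR _ ⟨s, rfl⟩)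
  have hP : Preserves n ∧ Preserves n⁻¹ := by
    by_cases h4 : m = 2 → r ≠ 2
    · exact ⟨preserves_of_ne_two hm h4 n, preserves_of_ne_two hm h4 n⁻¹⟩
    · push Not at h4
      obtain ⟨-, rfl⟩ := h4
      set e₀ : V := Pi.single (Sum.inl ⟨0, by omega⟩) 1
      obtain ⟨t, ht⟩ := exists_subSp σ (s := spT e₀ 1) (by rw [fieldSp_spT, comp_single, map_one])
      have h1 := hfix t
      rw [ht] at h1
      have h0 : e₀ ≠ 0 := by simp [e₀]
      refine ⟨preserves_of_one n h0 one_ne_zero h0 one_ne_zero h1, preserves_of_one n⁻¹ h0 one_ne_zero h0 one_ne_zero ?_⟩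
      conv_lhs => rw [← h1]
      exact n.symm_apply_apply _
  obtain ⟨g, τ, hg, hind⟩ := classification_of_preserves hm hP.1 hP.2
  obtain ⟨hτ, hn⟩ := eq_of_fixes_rational σ hm (eq_of_isInduced (g := ⟨g, hg⟩) hind) hfix
  rw [hn]
  obtain ⟨k, rfl⟩ := hτ
  exact ⟨k, (map_zpow fieldPSp σ k).symm⟩

/-- A normal subgroup of the subfield group of order prime to `p` is central, if `p` divides the subfield group. -/
lemma normal_coprime_map_eq_bot (hm : 2 ≤ m) {p : ℕ} [Fact p.Prime] (hσ : orderOf σ = p)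
    (h3 : m = 2 → 3 ≤ Fintype.card F) (h2 : (2 : F) = 0 → p ≠ 2)
    (hdiv : p ∣ Nat.card (subInn σ : _ →* MulAut PSpn).range)
    (M : Subgroup (MulAut PSpn)) (hM : M ≤ (subInn σ : _ →* MulAut PSpn).range)
    (hn : ∀ r ∈ (subInn σ : _ →* MulAut PSpn).range, ∀ u ∈ M, r * u * r⁻¹ ∈ M) (hcop : (Nat.card M).Coprime p) :
    M = ⊥ := by
  classical
  set f : Matrix.symplecticGroup (Fin m) (fixedField σ) →* MulAut PSpn := subInn σ with hf
  set M₀ := M.comap f with hM₀
  haveI : M₀.Normal := ⟨fun u hu g => by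
    rw [hM₀, Subgroup.mem_comap] at hu ⊢
    rw [map_mul, map_mul, map_inv]
    exact hn _ ⟨g, rfl⟩ _ hu⟩
  have hmap : M₀.map f = M := Subgroup.map_comap_eq_self hM
  have hp := (Fact.out : p.Prime)
  by_cases hfix : MulAction.fixedPoints M₀ (ℙ (fixedField σ) (Fin m ⊕ Fin m → fixedField σ)) = Set.univ
  · have hkc : ∀ g ∈ M₀, f g = 1 := fun g hg => by
      have hgc := mem_center_sp_of_fix_points (g := g) fun P =>
        (hfix ▸ Set.mem_univ P : P ∈ MulAction.fixedPoints M₀ _) ⟨g, hg⟩
      rcases (mem_center_sp_iff g).1 hgc with rfl | rfl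
      · exact map_one f
      · rw [hf, subInn_apply, show pspMk (subSp σ (spNegOne : Matrix.symplecticGroup (Fin m) (fixedField σ))) = (1 : PSpn) from ?_,
          map_one]
        refine (QuotientGroup.eq_one_iff _).2 ((mem_center_sp_iff _).2 (Or.inr (sp_ext fun y => ?_)))
        rw [subSp_coe, spNegOne_apply]
        show ((-1 : Matrix _ _ (fixedField σ)).map (fixedField σ).subtype) *ᵥ y = -y
        rw [Matrix.map_neg _ (map_neg _), Matrix.map_one _ (map_zero _) (map_one _), Matrix.neg_mulVec, one_mulVec]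
    rw [← hmap, eq_bot_iff]
    rintro _ ⟨g, hg, rfl⟩
    exact Subgroup.mem_bot.2 (hkc g hg)
  · exfalso
    have hndvd : ¬ p ∣ Nat.card M := fun h => hp.one_lt.ne' (Nat.eq_one_of_dvd_coprimes hcop h dvd_rfl)
    haveI := sp_isPreprimitive (F := fixedField σ) (m := m) (by omega)
    letI : Fintype (fixedField σ) := Fintype.ofFinite _
    by_cases h22 : m = 2 ∧ Fintype.card (fixedField σ) = 2
    · obtain ⟨rfl, hq⟩ := h22
      haveI := MulAction.IsQuasiPreprimitive.isPretransitive_of_normal (N := M₀) hfix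
      set P₀ : ℙ (fixedField σ) (Fin 2 ⊕ Fin 2 → fixedField σ) :=
        Projectivization.mk (fixedField σ) (Pi.single (Sum.inl 0) 1) (by simp)
      have h15 : 15 ∣ Nat.card M₀ := by
        have h1 : Nat.card (ℙ (fixedField σ) (Fin 2 ⊕ Fin 2 → fixedField σ)) ∣ Nat.card M₀ := by
          rw [← MulAction.index_stabilizer_of_transitive M₀ P₀]
          exact Subgroup.index_dvd_card _
        have h2' := Projectivization.card (fixedField σ) (Fin 2 ⊕ Fin 2 → fixedField σ)
        rw [Nat.card_eq_fintype_card (α := fixedField σ), Nat.card_eq_fintype_card (α := Fin 2 ⊕ Fin 2 → _),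
          Fintype.card_fun, hq] at h2'
        simp at h2'
        rwa [← h2'] at h1
      have h20 : (2 : fixedField σ) = 0 := by
        have h := Nat.cast_card_eq_zero (R := fixedField σ)
        rw [hq] at h
        exact_mod_cast h
      have hinj : Function.Injective f := by
        rw [← MonoidHom.ker_eq_bot_iff, eq_bot_iff]
        intro g hg
        rcases (mem_center_sp_iff g).1 (ker_subInn_le σ hm hg) with rfl | rfl
        · exact one_mem _
        · refine Subgroup.mem_bot.2 (sp_ext fun y => ?_)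
          rw [spNegOne_apply, Submonoid.coe_one, one_mulVec, ← sub_eq_zero, ← neg_add', ← two_smul (fixedField σ), h20,
            zero_smul, neg_zero]
      have hcard : Nat.card M₀ = Nat.card M := by
        rw [← hmap]
        exact Nat.card_congr (M₀.equivMapOfInjective f hinj).toEquiv
      have h720 : p ∣ 720 := by
        refine hdiv.trans ((Subgroup.card_range_dvd f).trans (dvd_of_eq ?_))
        rw [card_sp, hq]
        rfl
      have hp2 : p ≠ 2 := h2 (by
        have h := congrArg (fixedField σ).subtype h20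
        rwa [map_ofNat, map_zero] at h)
      have hp35 : p ∣ 15 := by
        rcases (hp.dvd_mul.1 (show p ∣ 2 ^ 4 * (3 * 3 * 5) from h720)) with h | h
        · exact absurd ((Nat.prime_dvd_prime_iff_eq hp Nat.prime_two).1 (hp.dvd_of_dvd_pow h)) hp2
        · rcases hp.dvd_mul.1 h with h | h
          · rcases hp.dvd_mul.1 h with h | h <;> exact h.trans (by norm_num)
          · exact h.trans (by norm_num)
      exact hndvd (hp35.trans (hcard ▸ h15))
    · have hperf : commutator (Matrix.symplecticGroup (Fin m) (fixedField σ)) = ⊤ := by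
        apply commutator_sp_eq_top
        rcases hm.lt_or_eq with h3' | h2'
        · exact Or.inr (Or.inl h3')
        · have hq2 : 3 ≤ Fintype.card (fixedField σ) := by
            have := Fintype.one_lt_card (α := fixedField σ)
            have h := fun e => h22 ⟨h2'.symm, e⟩
            omega
          rcases exists_sq_ne_one_or_two_ne_zero hq2 with h' | h'
          · exact Or.inl h'
          · exact Or.inr (Or.inr ⟨hm, h'⟩)
      have h1 := spIwasawa.commutator_le M₀ hfix
      rw [hperf, top_le_iff] at h1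
      refine hndvd (hdiv.trans (dvd_of_eq ?_))
      rw [← hmap, h1, ← MonoidHom.range_eq_map]

lemma two_dvd_card_subInn (hm : 2 ≤ m) (h2 : (2 : F) ≠ 0) : 2 ∣ Nat.card (subInn σ : _ →* MulAut PSpn).range := by
  set J₀ : Matrix.symplecticGroup (Fin m) (fixedField σ) := ⟨_, SymplecticGroup.J_mem (Fin m) (fixedField σ)⟩
  have hsq : J₀ * J₀ = spNegOne := Subtype.ext (by
    show Matrix.J (Fin m) (fixedField σ) * Matrix.J (Fin m) (fixedField σ) = _
    rw [J_squared]; rfl)
  have hne : subInn σ J₀ ≠ (1 : MulAut PSpn) := by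
    intro e
    have h1 := ker_subInn_le σ hm (MonoidHom.mem_ker.2 e)
    have h20 : (2 : fixedField σ) ≠ 0 := fun h => h2 (by
      have h' := congrArg (fixedField σ).subtype h
      rwa [map_ofNat, map_zero] at h')
    rcases (mem_center_sp_iff J₀).1 h1 with h | h <;>
    · have h' := congrFun (congrFun (congrArg Subtype.val h) (Sum.inl ⟨0, by omega⟩)) (Sum.inr ⟨0, by omega⟩)
      simp [J₀, Matrix.J, spNegOne] at h'
  have h1 : subInn σ J₀ ^ 2 = (1 : MulAut PSpn) := by
    rw [sq, ← map_mul, hsq, subInn_apply,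
      show pspMk (subSp σ (spNegOne : Matrix.symplecticGroup (Fin m) (fixedField σ))) = (1 : PSpn) from ?_, map_one]
    refine (QuotientGroup.eq_one_iff _).2 ((mem_center_sp_iff _).2 (Or.inr (sp_ext fun y => ?_)))
    rw [subSp_coe, spNegOne_apply]
    show ((-1 : Matrix _ _ (fixedField σ)).map (fixedField σ).subtype) *ᵥ y = -y
    rw [Matrix.map_neg _ (map_neg _), Matrix.map_one _ (map_zero _) (map_one _), Matrix.neg_mulVec, one_mulVec]
  haveI : Fact (Nat.Prime 2) := ⟨Nat.prime_two⟩
  rw [← orderOf_eq_prime h1 hne]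
  exact Subgroup.orderOf_dvd_natCard _ ⟨J₀, rfl⟩

/-- The balance criterion for a field automorphism. -/
theorem core_fieldPSp_iff (hm : 2 ≤ m) (h3 : m = 2 → 3 ≤ Fintype.card F) {r : ℕ} [Fact r.Prime] [CharP F r]
    {p : ℕ} [Fact p.Prime] (hpr : p ≠ r) (hσ : orderOf σ = p) (g : GSpn) (A : Subgroup (MulAut PSpn))
    (hA : (MulAut.conj : PSpn →* MulAut PSpn).range ≤ A) :
    Cfsg.pPrimeCore p ↥(A ⊓ Subgroup.centralizer {conjPSp g * fieldPSp σ * (conjPSp g)⁻¹}) ≠ ⊥ ↔
      (Nat.card ↥((MulAut.conj : PSpn →* MulAut PSpn).range ⊓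
        Subgroup.centralizer {conjPSp g * fieldPSp σ * (conjPSp g)⁻¹})).Coprime p := by
  set a : MulAut PSpn := conjPSp g
  set x := a * fieldPSp σ * a⁻¹ with hx
  set I : Subgroup (MulAut PSpn) := (MulAut.conj : PSpn →* MulAut PSpn).range with hI
  haveI hIn : I.Normal := (inferInstance : (Cfsg.Inn PSpn).Normal)
  haveI : Finite (MulAut PSpn) := Finite.of_injective (fun b : MulAut PSpn => (b : PSpn → PSpn)) DFunLike.coe_injective
  let c : MulAut PSpn →* MulAut PSpn := (MulAut.conj a).toMonoidHom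
  have hc : ∀ z, c z = a * z * a⁻¹ := fun z => rfl
  have hcc : ∀ z, c (a⁻¹ * z * a) = z := fun z => by rw [hc]; group
  set R₀ : Subgroup (MulAut PSpn) := (subInn σ : _ →* MulAut PSpn).range
  have hR0 : R₀ ≤ I ⊓ Subgroup.centralizer {fieldPSp σ} := range_subInn_le σ
  have hRI : R₀.map c ≤ I := by
    rintro _ ⟨z, hz, rfl⟩
    exact hIn.conj_mem z (hR0 hz).1 a
  have hRx : R₀.map c ≤ Subgroup.centralizer {x} := by
    rintro _ ⟨z, hz, rfl⟩
    exact Subgroup.mem_centralizer_singleton_iff.2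
      ((show Commute z (fieldPSp σ) from Subgroup.mem_centralizer_singleton_iff.1 (hR0 hz).2).map c).eq
  constructor
  · intro hne
    by_contra hcop
    refine hne (CfsgLib.Balance.core_eq_bot A I hA x p ?_ (R₀.map c) hRI hRx ?_ ?_ ?_)
    · rw [hx, ← hc, ← map_pow, ← map_pow fieldPSp, ← hσ, pow_orderOf_eq_one, map_one, map_one]
    · intro M hM hn hMcop
      have hdiv : p ∣ Nat.card R₀ := by
        rcases eq_or_ne p 2 with rfl | hp2
        · exact two_dvd_card_subInn σ hm fun h => hpr ((Nat.prime_dvd_prime_iff_eq (Fact.out : r.Prime) Nat.prime_two).1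
            ((CharP.cast_eq_zero_iff F r 2).1 (by exact_mod_cast h))).symm
        · have hd : p ∣ Nat.card ↥(I ⊓ Subgroup.centralizer {x}) := by
            by_contra h
            exact hcop (((Fact.out : p.Prime).coprime_iff_not_dvd.2 h).symm)
          refine hd.trans ((Subgroup.card_dvd_of_le ?_).trans
            (dvd_of_eq (Nat.card_congr (R₀.equivMapOfInjective c (MulAut.conj a).injective).toEquiv).symm))
          rintro z ⟨hzI, hzx⟩
          refine ⟨a⁻¹ * z * a, ?_, hcc z⟩
          have hz' : a⁻¹ * z * a ∈ Subgroup.centralizer {(fieldPSp σ : MulAut PSpn)} := by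
            have := Subgroup.mem_centralizer_singleton_iff.1 hzx
            rw [hx] at this
            refine Subgroup.mem_centralizer_singleton_iff.2 ?_
            calc a⁻¹ * z * a * fieldPSp σ = a⁻¹ * (z * (a * fieldPSp σ * a⁻¹)) * a := by group
              _ = a⁻¹ * (a * fieldPSp σ * a⁻¹ * z) * a := by rw [this]
              _ = _ := by group
          rcases mem_subInn_or_sq σ hm hσ (z := a⁻¹ * z * a)
            ⟨by have := hIn.conj_mem z hzI a⁻¹; rwa [inv_inv] at this, hz'⟩ with h | ⟨h, -⟩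
          · exact h
          · exact absurd h hp2
      have hM' : M = (M.comap c).map c := (Subgroup.map_comap_eq_self_of_surjective (MulAut.conj a).surjective M).symm
      rw [hM', normal_coprime_map_eq_bot σ hm hσ h3 (fun h2 e => hpr (e.trans ((Nat.prime_dvd_prime_iff_eq (Fact.out : r.Prime) Nat.prime_two).1
            ((CharP.cast_eq_zero_iff F r 2).1 (by exact_mod_cast h2))).symm)) hdiv (M.comap c) ?_ ?_ ?_, Subgroup.map_bot]
      · intro z hz
        obtain ⟨w, hw, e⟩ := hM hz
        exact (MulAut.conj a).injective e ▸ hw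
      · intro u hu v hv
        rw [Subgroup.mem_comap, map_mul, map_mul, map_inv]
        exact hn _ ⟨u, hu, rfl⟩ _ hv
      · rw [Nat.card_congr ((M.comap c).equivMapOfInjective c (MulAut.conj a).injective).toEquiv, ← hM']
        exact hMcop
    · rintro z ⟨hzI, hzx⟩
      have h1 : a⁻¹ * z * a ∈ I ⊓ Subgroup.centralizer {fieldPSp σ} := by
        refine ⟨by have := hIn.conj_mem z hzI a⁻¹; rwa [inv_inv] at this, Subgroup.mem_centralizer_singleton_iff.2 ?_⟩
        have := Subgroup.mem_centralizer_singleton_iff.1 hzx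
        rw [hx] at this
        calc a⁻¹ * z * a * fieldPSp σ = a⁻¹ * (z * (a * fieldPSp σ * a⁻¹)) * a := by group
          _ = a⁻¹ * (a * fieldPSp σ * a⁻¹ * z) * a := by rw [this]
          _ = _ := by group
      rcases mem_subInn_or_sq σ hm hσ h1 with h | ⟨h2, h⟩
      · exact Or.inl ⟨_, h, hcc z⟩
      · exact Or.inr ⟨h2, _, h, by rw [map_pow, hcc]⟩
    · intro n _ hn
      have h1 := eq_zpow_of_commute σ hm (r := r) (a⁻¹ * n * a) fun z hz => by
        have h := (hn _ ⟨z, hz, rfl⟩).eq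
        rw [hc] at h
        show a⁻¹ * n * a * z = z * (a⁻¹ * n * a)
        calc a⁻¹ * n * a * z = a⁻¹ * (n * (a * z * a⁻¹)) * a := by group
          _ = a⁻¹ * ((a * z * a⁻¹) * n) * a := by rw [h]
          _ = _ := by group
      obtain ⟨k, hk⟩ := h1
      refine ⟨k, ?_⟩
      show x ^ k = n
      rw [hx, ← hc, ← map_zpow c, show fieldPSp σ ^ k = a⁻¹ * n * a from hk, hcc]
  · intro hcop
    refine CfsgLib.Balance.core_ne_bot A I hA x p hcop ?_
    set e₀ : V := Pi.single (Sum.inl ⟨0, by omega⟩) 1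
    obtain ⟨t, ht⟩ := exists_subSp σ (s := spT e₀ 1) (by rw [fieldSp_spT, comp_single, map_one])
    have hmem : c (subInn σ t) ∈ R₀.map c := ⟨_, ⟨t, rfl⟩, rfl⟩
    refine ⟨c (subInn σ t), ⟨hRI hmem, hRx hmem⟩, fun e => ?_⟩
    rw [show (1 : MulAut PSpn) = c 1 from (map_one c).symm] at e
    have h1 := eq_one_of_conj_eq_one hm ((MulAut.conj a).injective e)
    rw [MonoidHom.comp_apply, ht, ← map_one (pspMk : Spn →* PSpn)] at h1
    obtain ⟨y, hy, hy', -⟩ := exists_perp hm e₀ e₀
    obtain ⟨u, hu⟩ := exists_partner (u := e₀) (by simp [e₀])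
    have h2 := eq_of_pspMk h1 hy (spT_fix hy' _) (one_mulVec y)
    have h3' := congrFun (congrArg (fun z : Spn => z.1 *ᵥ u) h2) (Sum.inl ⟨0, by omega⟩)
    simp [spT_apply, hu, e₀] at h3'

end CfsgLib.PSpAut
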