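/-
The exceptional isogeny of Sp_4 in characteristic two, through the action on a quotient of the exterior square.
-/
import Cfsg.Agent.Lib.KnownSimple.PSpAut.Balance

set_option autoImplicit false

namespace CfsgLib.PSpAut.Graph

open Matrix CfsgLib.Classical

variable {F : Type*} [Field F]

local notation "I4" => Fin 2 ⊕ Fin 2
local notation "M4" => Matrix I4 I4 F
local notation "Sp4" => Matrix.symplecticGroup (Fin 2) F

/-- The pairs of coordinates spanning the quotient. -/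
def idx : I4 → I4 × I4
  | Sum.inl 0 => (Sum.inl 0, Sum.inl 1)
  | Sum.inr 0 => (Sum.inr 0, Sum.inr 1)
  | Sum.inl 1 => (Sum.inl 0, Sum.inr 1)
  | Sum.inr 1 => (Sum.inl 1, Sum.inr 0)

/-- The minor of rows `a.1`, `a.2` and columns `b.1`, `b.2` in characteristic two. -/
def minor (g : M4) (a b : I4 × I4) : F := g a.1 b.1 * g a.2 b.2 + g a.1 b.2 * g a.2 b.1

/-- The compound matrix on the quotient. -/
def comp2 (g : M4) : M4 := Matrix.of fun i j => minor g (idx i) (idx j)

lemma comp2_apply (g : M4) (i j : I4) : comp2 g i j = minor g (idx i) (idx j) := rfl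

lemma sum_four (f : I4 → F) : ∑ k, f k = f (Sum.inl 0) + f (Sum.inl 1) + f (Sum.inr 0) + f (Sum.inr 1) := by
  rw [Fintype.sum_sum_type, Fin.sum_univ_two, Fin.sum_univ_two]; ring

variable [CharP F 2]

lemma two_zero : (2 : F) = 0 := CharTwo.two_eq_zero

lemma ofNat_mod (n : ℕ) [n.AtLeastTwo] : (OfNat.ofNat n : F) = ((n % 2 : ℕ) : F) := by
  show ((n : ℕ) : F) = _
  exact CharP.cast_eq_mod F 2 n

lemma row_rel {g : M4} (hg : g ∈ Sp4) (i : I4) :
    minor g (idx i) (Sum.inl 0, Sum.inr 0) + minor g (idx i) (Sum.inl 1, Sum.inr 1) = 0 := by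
  have h := congrFun (congrFun (SymplecticGroup.mem_iff.1 hg) (idx i).1) (idx i).2
  simp only [Matrix.mul_apply, sum_four, Matrix.transpose_apply, Matrix.J, Matrix.fromBlocks_apply₁₁,
    Matrix.fromBlocks_apply₁₂, Matrix.fromBlocks_apply₂₁, Matrix.fromBlocks_apply₂₂, Matrix.zero_apply,
    Matrix.one_apply, Matrix.neg_apply] at h
  rcases i with i | i <;> fin_cases i <;> simp [idx, minor, CharTwo.neg_eq] at h ⊢ <;> linear_combination h

lemma col_rel {g : M4} (hg : g ∈ Sp4) (j : I4) :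
    minor g (Sum.inl 0, Sum.inr 0) (idx j) + minor g (Sum.inl 1, Sum.inr 1) (idx j) = 0 := by
  have h := congrFun (congrFun (SymplecticGroup.mem_iff'.1 hg) (idx j).1) (idx j).2
  simp only [Matrix.mul_apply, sum_four, Matrix.transpose_apply, Matrix.J, Matrix.fromBlocks_apply₁₁,
    Matrix.fromBlocks_apply₁₂, Matrix.fromBlocks_apply₂₁, Matrix.fromBlocks_apply₂₂, Matrix.zero_apply,
    Matrix.one_apply, Matrix.neg_apply] at h
  rcases j with j | j <;> fin_cases j <;> simp [idx, minor, CharTwo.neg_eq] at h ⊢ <;> linear_combination h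

lemma comp2_mul {g h : M4} (hg : g ∈ Sp4) (hh : h ∈ Sp4) : comp2 (g * h) = comp2 g * comp2 h := by
  ext i j
  have R := row_rel hg i
  have C := col_rel hh j
  rw [Matrix.mul_apply, sum_four, comp2_apply]
  simp only [comp2_apply]
  generalize idx i = a at *
  generalize idx j = b at *
  simp only [minor, idx, Matrix.mul_apply, sum_four] at *
  linear_combination (h (Sum.inl 0) b.1 * h (Sum.inr 0) b.2 + h (Sum.inl 0) b.2 * h (Sum.inr 0) b.1) * R +
    (g a.1 (Sum.inl 1) * g a.2 (Sum.inr 1) + g a.1 (Sum.inr 1) * g a.2 (Sum.inl 1)) * C +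
    (g a.1 (Sum.inl 0) * g a.2 (Sum.inl 0) * h (Sum.inl 0) b.1 * h (Sum.inl 0) b.2 +
     g a.1 (Sum.inl 1) * g a.2 (Sum.inl 1) * h (Sum.inl 1) b.1 * h (Sum.inl 1) b.2 +
     g a.1 (Sum.inr 0) * g a.2 (Sum.inr 0) * h (Sum.inr 0) b.1 * h (Sum.inr 0) b.2 +
     g a.1 (Sum.inr 1) * g a.2 (Sum.inr 1) * h (Sum.inr 1) b.1 * h (Sum.inr 1) b.2 -
     (g a.1 (Sum.inl 1) * g a.2 (Sum.inr 1) + g a.1 (Sum.inr 1) * g a.2 (Sum.inl 1)) *
       (h (Sum.inl 0) b.1 * h (Sum.inr 0) b.2 + h (Sum.inl 0) b.2 * h (Sum.inr 0) b.1)) * (two_zero (F := F))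

lemma comp2_one : comp2 (1 : M4) = 1 := by
  ext i j
  rcases i with i | i <;> fin_cases i <;> rcases j with j | j <;> fin_cases j <;> simp [comp2_apply, minor, Matrix.one_apply, idx]

/-- The transvection matrix. -/
def tMat (v : I4 → F) (c : F) : M4 := Matrix.of fun i j => (if i = j then 1 else 0) + c * v j.swap * v i

lemma spT_val (v : I4 → F) (c : F) : (spT v c : Sp4).1 = tMat v c := by
  refine Matrix.ext_of_mulVec_single fun j => funext fun i => ?_
  rw [spT_apply, Matrix.mulVec_single_one]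
  simp only [Matrix.col_apply, tMat, Matrix.of_apply, Pi.add_apply, Pi.smul_apply, smul_eq_mul, sympForm_eq,
    Fin.sum_univ_two, Pi.single_apply]
  rcases j with j | j <;> fin_cases j <;> simp [CharTwo.neg_eq, Sum.swap] <;> ring

lemma comp2_tMat_mem (v : I4 → F) (c : F) : comp2 (tMat v c) ∈ Sp4 := by
  rw [SymplecticGroup.mem_iff]
  ext i j
  simp only [Matrix.mul_apply, sum_four, Matrix.transpose_apply, comp2_apply, Matrix.J, Matrix.fromBlocks_apply₁₁,
    Matrix.fromBlocks_apply₁₂, Matrix.fromBlocks_apply₂₁, Matrix.fromBlocks_apply₂₂, Matrix.zero_apply,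
    Matrix.one_apply, Matrix.neg_apply, CharTwo.neg_eq]
  rcases i with i | i <;> fin_cases i <;> rcases j with j | j <;> fin_cases j <;>
    simp [idx, minor, tMat, Sum.swap] <;> ring_nf <;> simp [ofNat_mod]

lemma comp2_comp2_tMat (v : I4 → F) (c : F) :
    comp2 (comp2 (tMat v c)) = tMat (fun k => v k ^ 2) (c ^ 2) := by
  ext i j
  rcases i with i | i <;> fin_cases i <;> rcases j with j | j <;> fin_cases j <;>
    simp [comp2, idx, minor, tMat, Sum.swap] <;> ring_nf <;> simp [ofNat_mod]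

section Hom

variable [Fintype F]

/-- The elements whose compound matrix is symplectic. -/
def goodSub : Subgroup Sp4 where
  carrier := {g | comp2 g.1 ∈ Sp4}
  one_mem' := by show comp2 (1 : M4) ∈ Sp4; rw [comp2_one]; exact one_mem _
  mul_mem' {a b} ha hb := by
    show comp2 (a.1 * b.1) ∈ Sp4
    rw [comp2_mul a.2 b.2]; exact mul_mem ha hb
  inv_mem' {a} ha := by
    show comp2 (a⁻¹).1 ∈ Sp4
    have h : comp2 (a⁻¹).1 * comp2 a.1 = 1 := by
      rw [← comp2_mul (a⁻¹).2 a.2, ← Submonoid.coe_mul, inv_mul_cancel]; exact comp2_one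
    set u : Sp4 := ⟨_, ha⟩
    have : comp2 (a⁻¹).1 = (u⁻¹).1 := by
      refine left_inv_eq_right_inv h ?_
      exact congrArg Subtype.val (mul_inv_cancel u)
    rw [this]; exact (u⁻¹).2

lemma goodSub_eq_top : goodSub = (⊤ : Subgroup Sp4) := by
  rw [eq_top_iff, ← spTGroup_univ, spTGroup, Subgroup.closure_le]
  rintro A ⟨v, -, c, rfl⟩
  show comp2 (spT v c : Sp4).1 ∈ Sp4
  rw [spT_val]; exact comp2_tMat_mem v c

/-- The special isogeny. -/
def isog : Sp4 →* Sp4 where
  toFun g := ⟨comp2 g.1, show g ∈ goodSub by rw [goodSub_eq_top]; trivial⟩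
  map_one' := Subtype.ext comp2_one
  map_mul' a b := Subtype.ext (comp2_mul a.2 b.2)

lemma isog_val (g : Sp4) : (isog g).1 = comp2 g.1 := rfl

/-- Frobenius. -/
noncomputable def frob : F ≃+* F :=
  haveI : Fact (Nat.Prime 2) := ⟨Nat.prime_two⟩
  RingEquiv.ofBijective (frobenius F 2) (PerfectRing.bijective_frobenius (R := F) (p := 2))

lemma frob_apply (x : F) : frob x = x ^ 2 := rfl

lemma isog_isog (g : Sp4) : isog (isog g) = fieldSp frob g := by
  have h : (isog.comp isog : Sp4 →* Sp4) = (fieldSp frob).toMonoidHom := by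
    refine MonoidHom.eq_of_eqOn_dense (s := {A | ∃ v ∈ Set.univ, ∃ c, A = spT v c}) ?_ ?_
    · exact spTGroup_univ
    · rintro A ⟨v, -, c, rfl⟩
      refine Subtype.ext ?_
      show comp2 (comp2 (spT v c : Sp4).1) = (fieldSp frob (spT v c)).1
      rw [fieldSp_spT, spT_val, spT_val, comp2_comp2_tMat]
      rfl
  exact DFunLike.congr_fun h g

lemma isog_bijective : Function.Bijective (isog : Sp4 → Sp4) := by
  refine Finite.injective_iff_bijective.1 fun a b e => ?_
  exact (fieldSp frob).injective (by rw [← isog_isog, ← isog_isog, e])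

/-- The graph automorphism of PSp_4. -/
noncomputable def graphPSp : MulAut (Cfsg.PSp 2 F) := descendPSp (MulEquiv.ofBijective isog isog_bijective)

lemma graphPSp_mk (g : Sp4) : graphPSp (pspMk g) = pspMk (isog g) := rfl

lemma graphPSp_sq : graphPSp * graphPSp = (fieldPSp frob : MulAut (Cfsg.PSp 2 F)) := eq_of_pspMk_eq fun g => by
  rw [MulAut.mul_apply, graphPSp_mk, graphPSp_mk, isog_isog, fieldPSp_mk]

lemma not_preserves_graph : ¬ Preserves (graphPSp : MulAut (Cfsg.PSp 2 F)) := by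
  intro h
  obtain ⟨w, d, -, -, e⟩ := h (Pi.single (Sum.inl 0) 1) (by simp) 1 one_ne_zero
  rw [graphPSp_mk] at e
  have h1 := congrArg Subtype.val (pspMk_injective_of_char_two e)
  rw [isog_val, spT_val, spT_val] at h1
  have a := congrFun (congrFun h1 (Sum.inl 0)) (Sum.inr 1)
  have b := congrFun (congrFun h1 (Sum.inl 1)) (Sum.inr 0)
  have c := congrFun (congrFun h1 (Sum.inl 0)) (Sum.inr 0)
  simp [comp2_apply, minor, idx, tMat, Sum.swap] at a b c
  rcases c with hd | hw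
  · exact one_ne_zero (a.trans (by rw [hd, zero_mul, zero_mul]))
  · exact one_ne_zero (a.trans (by rw [hw, mul_zero]))

lemma inndiag_le_inn {m : ℕ} (g : Cfsg.GSp m F) : (conjPSp g : MulAut (Cfsg.PSp m F)) ∈ Cfsg.Inn (Cfsg.PSp m F) := by
  obtain ⟨c, hc⟩ := exists_sq (multFun g : F)
  have hc0 : c ≠ 0 := fun h0 => (multFun g).ne_zero (by rw [← hc, h0, zero_pow two_ne_zero])
  obtain ⟨s, hs⟩ : ∃ s : Matrix.symplecticGroup (Fin m) F, s.1 = c⁻¹ • mat g := ⟨⟨_, mem_sp_iff.2 fun u v => by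
    rw [smul_mulVec, smul_mulVec, sympForm_smul_left, sympForm_smul_right, multFun_spec, ← hc]
    field_simp⟩, rfl⟩
  refine ⟨pspMk s, ?_⟩
  rw [← conjPSp_toGSp]
  refine eq_of_pspMk_eq fun t => congrArg pspMk (Subtype.ext ?_)
  have hinv : mat (toGSp s)⁻¹ = c • mat g⁻¹ := by
    refine left_inv_eq_right_inv (mat_inv_mul _) ?_
    rw [mat_toGSp, hs, Matrix.smul_mul, Matrix.mul_smul, mat_mul_inv, smul_smul, inv_mul_cancel₀ hc0, one_smul]
  show (conjSp (toGSp s) t).1 = (conjSp g t).1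
  rw [conjSp_coe, conjSp_coe, hinv, mat_toGSp, hs, Matrix.smul_mul, Matrix.smul_mul, Matrix.mul_smul, smul_smul,
    inv_mul_cancel₀ hc0, one_smul]

/-- Every automorphism is an inner automorphism times a power of the graph automorphism. -/
lemma exists_zpow_graph (β : MulAut (Cfsg.PSp 2 F)) :
    ∃ (i : MulAut (Cfsg.PSp 2 F)) (k : ℤ), i ∈ Cfsg.Inn (Cfsg.PSp 2 F) ∧ β = i * graphPSp ^ k := by
  have key : ∀ γ : MulAut (Cfsg.PSp 2 F), Preserves γ →
      ∃ (i : MulAut (Cfsg.PSp 2 F)) (k : ℤ), i ∈ Cfsg.Inn (Cfsg.PSp 2 F) ∧ γ = i * graphPSp ^ k := by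
    intro γ hγ
    have hγ' : Preserves γ⁻¹ := by
      obtain ⟨w, d, hw, hd, e⟩ := hγ (Pi.single (Sum.inl 0) 1) (by simp) 1 one_ne_zero
      refine preserves_of_one γ⁻¹ hw hd (v := w) (w := Pi.single (Sum.inl 0) 1) (by simp) (one_ne_zero (α := F)) ?_
      rw [← e]; exact γ.symm_apply_apply _
    obtain ⟨g, τ, hg, hind⟩ := classification_of_preserves le_rfl hγ hγ'
    obtain ⟨k, hk⟩ := CfsgLib.PSLAut.mem_zpowers_of_fixes (σ := frob) (τ := τ) fun x hx => by
      rw [frob_apply, sq] at hx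
      rcases eq_or_ne x 0 with rfl | h0
      · exact map_zero τ
      · rw [mul_left_eq_self₀, or_iff_left h0] at hx
        rw [hx, map_one]
    refine ⟨conjPSp ⟨g, hg⟩, 2 * k, inndiag_le_inn _, ?_⟩
    rw [eq_of_isInduced (g := ⟨g, hg⟩) hind, _root_.zpow_mul, zpow_two, graphPSp_sq, ← map_zpow]
    exact congrArg _ (congrArg _ hk.symm)
  by_cases hP : Preserves β
  · exact key β hP
  · have hgi : ¬ Preserves (graphPSp : MulAut (Cfsg.PSp 2 F))⁻¹ := fun h' => by
      obtain ⟨w, d, hw, hd, e⟩ := h' (Pi.single (Sum.inl 0) 1) (by simp) 1 one_ne_zero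
      refine not_preserves_graph (preserves_of_one graphPSp hw hd (w := Pi.single (Sum.inl 0) 1) (by simp) one_ne_zero ?_)
      rw [← e]; exact graphPSp.apply_symm_apply _
    obtain ⟨i, k, hi, e⟩ := key _ (preserves_mul rfl hP hgi)
    refine ⟨i, k + 1, hi, ?_⟩
    rw [_root_.zpow_add, zpow_one, ← mul_assoc, ← e, inv_mul_cancel_right]

lemma orderOf_frob {f : ℕ} (hF : Fintype.card F = 2 ^ f) : orderOf (frob : F ≃+* F) = f := by
  have h := CfsgLib.PSLAut.card_fixedField (frob : F ≃+* F)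
  have h2 : Nat.card (CfsgLib.PSLAut.fixedField (frob : F ≃+* F)) = 2 := by
    change Nat.card ((CfsgLib.PSLAut.fixedField (frob : F ≃+* F) : Subfield F) : Set F) = 2
    rw [show ((CfsgLib.PSLAut.fixedField (frob : F ≃+* F) : Subfield F) : Set F) = {0, 1} from ?_]
    · rw [Nat.card_coe_set_eq, Set.ncard_pair zero_ne_one]
    ext x
    show frob x = x ↔ x ∈ ({0, 1} : Set F)
    rw [frob_apply, sq, mul_left_eq_self₀, Set.mem_insert_iff, Set.mem_singleton_iff, or_comm]
  rw [h2, hF] at h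
  exact (Nat.pow_right_injective le_rfl h).symm

theorem out_cyclic {f : ℕ} (hF : Fintype.card F = 2 ^ f) :
    IsCyclic (Cfsg.Out (Cfsg.PSp 2 F)) ∧ Nat.card (Cfsg.Out (Cfsg.PSp 2 F)) = 2 * f := by
  set γ : Cfsg.Out (Cfsg.PSp 2 F) := QuotientGroup.mk graphPSp with hγ
  have hgen : ∀ x, x ∈ Subgroup.zpowers γ := by
    intro x
    induction x using QuotientGroup.induction_on with | _ β =>
    obtain ⟨i, k, hi, rfl⟩ := exists_zpow_graph β
    refine ⟨k, ?_⟩
    show γ ^ k = _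
    rw [hγ, ← QuotientGroup.mk_zpow, QuotientGroup.mk_mul, (QuotientGroup.eq_one_iff i).2 hi, one_mul]
  refine ⟨⟨⟨γ, hgen⟩⟩, ?_⟩
  rw [← orderOf_eq_card_of_forall_mem_zpowers hgen]
  haveI := CfsgLib.PSLAut.finite_ringAut (F := F)
  have hf : 0 < f := orderOf_frob hF ▸ orderOf_pos _
  rw [orderOf_eq_iff (by omega)]
  constructor
  · rw [hγ, ← QuotientGroup.mk_pow, pow_mul, sq, graphPSp_sq, ← map_pow, ← orderOf_frob hF, pow_orderOf_eq_one, map_one]
    rfl
  · intro j hj hj0 e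
    rw [hγ, ← QuotientGroup.mk_pow, QuotientGroup.eq_one_iff] at e
    obtain ⟨g, hg⟩ := inn_le_range_conjPSp e
    rcases Nat.even_or_odd j with ⟨k, rfl⟩ | ⟨k, rfl⟩
    · rw [← two_mul, pow_mul, sq, graphPSp_sq, ← map_pow] at hg
      have h1 : (frob : F ≃+* F) ^ k = 1 := conj_field_injective le_rfl (g := 1) (g' := g) (τ' := 1)
        (by rw [map_one, one_mul, map_one, mul_one, hg])
      have := Nat.le_of_dvd (by omega) (orderOf_dvd_of_pow_eq_one h1)
      rw [orderOf_frob hF] at this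
      omega
    · rw [pow_succ, pow_mul, sq, graphPSp_sq, ← map_pow] at hg
      refine not_preserves_graph (F := F) (fun v hv c hc => ?_)
      have h1 : graphPSp = (fieldPSp (frob ^ k)⁻¹ * conjPSp g : MulAut (Cfsg.PSp 2 F)) := by
        rw [hg, map_inv, inv_mul_cancel_left]
      refine ⟨(mat (fieldGSp ((frob (F := F)) ^ k)⁻¹ g)) *ᵥ (⇑(((frob (F := F)) ^ k)⁻¹ : F ≃+* F) ∘ v),
        (multFun (fieldGSp ((frob (F := F)) ^ k)⁻¹ g) : F)⁻¹ * ((frob (F := F)) ^ k)⁻¹ c, ?_, ?_, ?_⟩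
      rotate_left 2
      · rw [h1, fieldPSp_mul_conjPSp, MulAut.mul_apply, fieldPSp_mk, fieldSp_spT, conjPSp_mk, conjSp_spT]
      · intro h0
        have := congrArg (fun u => mat (fieldGSp ((frob (F := F)) ^ k)⁻¹ g)⁻¹ *ᵥ u) h0
        simp only [mulVec_mulVec, mat_inv_mul, one_mulVec, mulVec_zero] at this
        exact hv (funext fun i => (frob ^ k)⁻¹.injective ((congrFun this i).trans (map_zero _).symm))
      · exact mul_ne_zero (inv_ne_zero (Units.ne_zero _)) ((map_ne_zero _).2 hc)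

end Hom

end CfsgLib.PSpAut.Graph
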